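import Mathlib

/-!
Euler characteristics (alternating sums of lengths of cohomology) of cochain complexes of modules.
-/

set_option autoImplicit false

universe u

open CategoryTheory CategoryTheory.Limits

namespace Groth.Agent.KChi

section Len

variable {A : Type u} [CommRing A]

/-- The length of a module, as a natural number. -/
noncomputable def lenN (A : Type u) [CommRing A] (M : Type u) [AddCommGroup M] [Module A M] : ℕ :=
  (Module.length A M).toNat

theorem coe_lenN {M : Type u} [AddCommGroup M] [Module A M] (h : IsFiniteLength A M) :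
    (lenN A M : ℕ∞) = Module.length A M :=
  ENat.coe_toNat (Module.length_ne_top_iff.mpr h)

theorem lenN_congr {M N : Type u} [AddCommGroup M] [Module A M] [AddCommGroup N] [Module A N]
    (e : M ≃ₗ[A] N) : lenN A M = lenN A N := by
  rw [lenN, lenN, e.length_eq]

theorem lenN_subsingleton {M : Type u} [AddCommGroup M] [Module A M] [Subsingleton M] :
    lenN A M = 0 := by
  rw [lenN, Module.length_eq_zero, ENat.toNat_zero]

variable {L M N : Type u} [AddCommGroup L] [Module A L] [AddCommGroup M] [Module A M]
  [AddCommGroup N] [Module A N] (f : L →ₗ[A] M) (g : M →ₗ[A] N)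

theorem length_eq_range_add_range (h : Function.Exact f g) :
    Module.length A M = Module.length A (LinearMap.range f) + Module.length A (LinearMap.range g) := by
  refine Module.length_eq_add_of_exact (LinearMap.range f).subtype g.rangeRestrict
    (Submodule.subtype_injective _) g.surjective_rangeRestrict ?_
  rw [LinearMap.exact_iff, LinearMap.ker_rangeRestrict, Submodule.range_subtype, h.linearMap_ker_eq]

theorem lenN_eq_range_add_range (h : Function.Exact f g) (hM : IsFiniteLength A M) :
    lenN A M = lenN A (LinearMap.range f) + lenN A (LinearMap.range g) := by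
  have h1 := length_eq_range_add_range f g h
  have h2 : Module.length A M ≠ ⊤ := Module.length_ne_top_iff.mpr hM
  rw [lenN, lenN, lenN, h1, ENat.toNat_add]
  · exact fun e => h2 (by rw [h1, e, top_add])
  · exact fun e => h2 (by rw [h1, e, add_top])

theorem length_le_add (h : Function.Exact f g) :
    Module.length A M ≤ Module.length A L + Module.length A N := by
  rw [length_eq_range_add_range f g h]
  exact add_le_add (Module.length_le_of_surjective _ f.surjective_rangeRestrict)
    (Module.length_le_of_injective _ (LinearMap.range g).subtype_injective)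

theorem isFiniteLength_of_exact (h : Function.Exact f g) (hL : IsFiniteLength A L)
    (hN : IsFiniteLength A N) : IsFiniteLength A M := by
  rw [← Module.length_ne_top_iff] at hL hN ⊢
  intro e
  have h1 := length_le_add f g h
  rw [e, top_le_iff] at h1
  exact WithTop.add_ne_top.mpr ⟨hL, hN⟩ h1

theorem lenN_eq_add (h : Function.Exact f g) (hf : Function.Injective f) (hg : Function.Surjective g)
    (hM : IsFiniteLength A M) : lenN A M = lenN A L + lenN A N := by
  rw [lenN_eq_range_add_range f g h hM]
  congr 1
  · exact (lenN_congr (LinearEquiv.ofInjective f hf)).symm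
  · exact lenN_congr ((LinearEquiv.ofEq _ _ (LinearMap.range_eq_top.mpr hg)).trans Submodule.topEquiv)

end Len

section Sum

/-- The sign `(-1)^i`. -/
def sgn (i : ℤ) : ℤ := ((i.negOnePow : ℤˣ) : ℤ)

theorem sgn_succ (i : ℤ) : sgn (i + 1) = - sgn i := by
  rw [sgn, sgn, Int.negOnePow_succ, Units.val_neg]

theorem sgn_zero : sgn 0 = 1 := by simp [sgn]

theorem finite_support_sgn_mul {r : ℤ → ℕ} (h : r.support.Finite) :
    (Function.support fun i => sgn i * (r i : ℤ)).Finite := by
  refine h.subset fun i hi => ?_
  simp only [Function.mem_support, ne_eq] at hi ⊢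
  intro e; exact hi (by rw [e, Nat.cast_zero, mul_zero])

theorem finsum_sgn_shift {r : ℤ → ℤ} :
    (∑ᶠ i : ℤ, sgn i * r (i + 1)) = -∑ᶠ i : ℤ, sgn i * r i := by
  rw [← finsum_neg_distrib]
  rw [← finsum_comp_equiv (Equiv.addRight (1 : ℤ)) (f := fun i : ℤ => -(sgn i * r i))]
  refine finsum_congr fun i => ?_
  simp only [Equiv.coe_addRight, sgn_succ]
  ring

theorem finsum_telescope {a b c r : ℤ → ℕ} (ha : a.support.Finite) (hb : b.support.Finite)
    (hc : c.support.Finite) (hr : r.support.Finite)
    (h : ∀ i, b i + r i + r (i + 1) = a i + c i) :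
    (∑ᶠ i : ℤ, sgn i * (b i : ℤ)) =
      (∑ᶠ i : ℤ, sgn i * (a i : ℤ)) + ∑ᶠ i : ℤ, sgn i * (c i : ℤ) := by
  have hr' : (fun i => r (i + 1)).support.Finite := by
    have : (fun i => r (i + 1)).support = (fun i : ℤ => i + 1) ⁻¹' r.support := rfl
    rw [this]
    exact hr.preimage (fun x _ y _ e => add_right_cancel e)
  rw [← finsum_add_distrib (finite_support_sgn_mul ha) (finite_support_sgn_mul hc)]
  have e : (fun i => sgn i * (a i : ℤ) + sgn i * (c i : ℤ)) =
      fun i => sgn i * (b i : ℤ) + (sgn i * (r i : ℤ) + sgn i * (r (i + 1) : ℤ)) := by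
    funext i
    rw [← mul_add, ← mul_add, ← mul_add]
    congr 1
    have := h i
    omega
  rw [e, finsum_add_distrib (finite_support_sgn_mul hb), finsum_add_distrib (finite_support_sgn_mul hr)
    (finite_support_sgn_mul (r := fun i => r (i + 1)) hr'), finsum_sgn_shift (r := fun i => (r i : ℤ)),
    add_neg_cancel, add_zero]
  refine Set.Finite.subset ((finite_support_sgn_mul hr).union
    (finite_support_sgn_mul (r := fun i => r (i + 1)) hr')) ?_
  exact Function.support_add _ _

end Sum

section Cx

variable {A : Type u} [CommRing A]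

/-- A complex all of whose cohomology has finite length, almost all of it being zero. -/
structure Bdd (K : CochainComplex (ModuleCat.{u} A) ℤ) : Prop where
  fl : ∀ i, IsFiniteLength A (K.homology i)
  fin : (fun i => lenN A (K.homology i)).support.Finite

/-- The Euler characteristic. -/
noncomputable def eul (K : CochainComplex (ModuleCat.{u} A) ℤ) : ℤ :=
  ∑ᶠ i : ℤ, sgn i * (lenN A (K.homology i) : ℤ)

theorem lenN_homology_congr {K L : CochainComplex (ModuleCat.{u} A) ℤ} (f : K ⟶ L) [QuasiIso f]
    (i : ℤ) : lenN A (K.homology i) = lenN A (L.homology i) :=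
  lenN_congr (asIso (HomologicalComplex.homologyMap f i)).toLinearEquiv

theorem eul_congr {K L : CochainComplex (ModuleCat.{u} A) ℤ} (f : K ⟶ L) [QuasiIso f] :
    eul K = eul L :=
  finsum_congr fun i => by rw [lenN_homology_congr f i]

variable {S : ShortComplex (CochainComplex (ModuleCat.{u} A) ℤ)} (hS : S.ShortExact)

include hS in
theorem exact_mid (i : ℤ) : Function.Exact (HomologicalComplex.homologyMap S.f i).hom
    (HomologicalComplex.homologyMap S.g i).hom :=
  (ShortComplex.ShortExact.moduleCat_exact_iff_function_exact _).mp (hS.homology_exact₂ i)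

theorem exact_right (i j : ℤ) (hij : i + 1 = j) :
    Function.Exact (HomologicalComplex.homologyMap S.g i).hom (hS.δ i j hij).hom :=
  (ShortComplex.ShortExact.moduleCat_exact_iff_function_exact _).mp (hS.homology_exact₃ i j hij)

theorem exact_left (i j : ℤ) (hij : i + 1 = j) :
    Function.Exact (hS.δ i j hij).hom (HomologicalComplex.homologyMap S.f j).hom :=
  (ShortComplex.ShortExact.moduleCat_exact_iff_function_exact _).mp (hS.homology_exact₁ i j hij)

include hS in
theorem length_mid_le (i : ℤ) :
    Module.length A (S.X₂.homology i) ≤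
      Module.length A (S.X₁.homology i) + Module.length A (S.X₃.homology i) :=
  length_le_add _ _ (exact_mid hS i)

include hS in
theorem eul_add (h1 : Bdd S.X₁) (h2 : Bdd S.X₂) (h3 : Bdd S.X₃) :
    eul S.X₂ = eul S.X₁ + eul S.X₃ := by
  let r : ℤ → ℕ := fun i =>
    lenN A (LinearMap.range (hS.δ (i - 1) i (sub_add_cancel i 1)).hom)
  have hA : ∀ i, lenN A (S.X₁.homology i) =
      r i + lenN A (LinearMap.range (HomologicalComplex.homologyMap S.f i).hom) := fun i =>
    lenN_eq_range_add_range _ _ (exact_left hS (i - 1) i (sub_add_cancel i 1)) (h1.fl i)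
  have hB : ∀ i, lenN A (S.X₂.homology i) =
      lenN A (LinearMap.range (HomologicalComplex.homologyMap S.f i).hom) +
      lenN A (LinearMap.range (HomologicalComplex.homologyMap S.g i).hom) := fun i =>
    lenN_eq_range_add_range _ _ (exact_mid hS i) (h2.fl i)
  have key : ∀ i k, k = i + 1 → ∀ hk, lenN A (LinearMap.range (hS.δ i k hk).hom) = r k := by
    intro i k hk hk'
    obtain rfl : i = k - 1 := by omega
    rfl
  have hC : ∀ i, lenN A (S.X₃.homology i) =
      lenN A (LinearMap.range (HomologicalComplex.homologyMap S.g i).hom) + r (i + 1) := fun i => by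
    rw [lenN_eq_range_add_range _ _ (exact_right hS i (i + 1) rfl) (h3.fl i), key i (i + 1) rfl]
  refine finsum_telescope (r := r) h1.fin h2.fin h3.fin (h1.fin.subset fun i hi => ?_) fun i => ?_
  · simp only [Function.mem_support, ne_eq] at hi ⊢
    have := hA i
    omega
  · have := hA i
    have := hB i
    have := hC i
    omega

end Cx

end Groth.Agent.KChi
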