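import Mathlib
import Groth.Prelude.Def_ega3
import Groth.Agent.CechX.KoszulDepth
import Groth.Agent.InjHull.Matlis
import Groth.Agent.KChi.Euler

/-!
Koszul complexes with coefficients: finiteness, exactness in the module, Euler characteristic.
-/

set_option autoImplicit false

universe u

open CategoryTheory CategoryTheory.Limits CochainComplex Groth.Agent.CechX IsLocalRing

namespace Groth.Agent.KChi

variable {A : Type u} [CommRing A]

/-- The Koszul complex with coefficients in a module. -/
noncomputable abbrev KX (l : List A) (M : Type u) [AddCommGroup M] [Module A M] :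
    CochainComplex (ModuleCat.{u} A) ℤ :=
  CohIII.koszulCx (ModuleCat.of A M) l

section Terms

variable {M : Type u} [AddCommGroup M] [Module A M]

/-- The degree zero term of a complex concentrated in degree zero. -/
noncomputable def e0 (N : ModuleCat.{u} A) : ↑((single0 N).X 0) ≃ₗ[A] ↑N :=
  (HomologicalComplex.singleObjXSelf (ComplexShape.up ℤ) 0 N).toLinearEquiv

theorem kterm_killed (a : A) (ha : ∀ m : M, a • m = 0) : ∀ (l : List A) (p : ℤ) (z : (KX l M).X p),
    a • z = 0
  | [], p, z => by
    change ↑((single0 (ModuleCat.of A M)).X p) at z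
    show a • z = (0 : ↑((single0 (ModuleCat.of A M)).X p))
    rcases eq_or_ne p 0 with rfl | hp
    · apply (e0 (ModuleCat.of A M)).injective
      rw [map_smul, map_zero]
      exact ha _
    · exact single0_eq_zero _ p (by lia) _
  | f :: l, p, z => by
    change ↑((mappingCone (f • 𝟙 (KX l M))).X p) at z
    show a • z = (0 : ↑((mappingCone (f • 𝟙 (KX l M))).X p))
    exact cone_ext rfl
      (by rw [map_smul, map_zero]; exact kterm_killed a ha l (p + 1) _)
      (by rw [map_smul, map_zero]; exact kterm_killed a ha l p _)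

theorem kterm_finite [Module.Finite A M] : ∀ (l : List A) (p : ℤ),
    Module.Finite A ↑((KX l M).X p)
  | [], p => by
    rcases eq_or_ne p 0 with rfl | hp
    · exact Module.Finite.equiv (e0 (ModuleCat.of A M)).symm
    · haveI : Subsingleton ↑((single0 (ModuleCat.of A M)).X p) :=
        subsingleton_of_forall_eq 0 fun x => single0_eq_zero _ p (by lia) x
      show Module.Finite A ↑((single0 (ModuleCat.of A M)).X p)
      exact Module.Finite.of_finite
  | f :: l, p => by
    haveI := kterm_finite l (p + 1)
    haveI := kterm_finite l p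
    show Module.Finite A ↑((mappingCone (f • 𝟙 (KX l M))).X p)
    let g := (c1 (f • 𝟙 (KX l M)) p (p + 1) rfl).prod (c2 (f • 𝟙 (KX l M)) p)
    refine Module.Finite.equiv (LinearEquiv.ofBijective g
      ⟨fun z w e => cone_ext rfl (congrArg Prod.fst e) (congrArg Prod.snd e),
        fun y => ⟨cmk _ p (p + 1) rfl y.1 y.2, Prod.ext (c1_cmk rfl _ _) (c2_cmk rfl _ _)⟩⟩).symm

theorem kterm_eq_zero (l : List A) (p : ℤ) (hp : 0 < p ∨ p < -(l.length : ℤ)) (z : (KX l M).X p) :
    z = 0 :=
  hp.elim (fun h => koszulCx_eq_zero _ l p h z) (fun h => koszulCx_eq_zero_of_lt _ l p h z)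

theorem subsingleton_H (l : List A) (p : ℤ) (hp : 0 < p ∨ p < -(l.length : ℤ)) :
    Subsingleton ↑((KX l M).homology p) := by
  refine subsingleton_of_forall_eq 0 fun c => ?_
  obtain ⟨x, rfl⟩ := hcls_surjective p c
  exact (hcls_eq_zero_iff p (p - 1) (sub_add_cancel p 1) x).2
    ⟨0, (map_zero _).trans (kterm_eq_zero l p hp x.1).symm⟩

theorem support_lenN_finite (l : List A) :
    (fun p => lenN A ((KX l M).homology p)).support.Finite := by
  refine (Set.finite_Icc (-(l.length : ℤ)) 0).subset fun p hp => ?_
  by_contra h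
  rw [Set.mem_Icc, not_and_or, not_le, not_le] at h
  haveI := subsingleton_H (M := M) l p h.symm
  exact hp lenN_subsingleton

theorem H_finite [IsNoetherianRing A] [Module.Finite A M] (l : List A) (p : ℤ) :
    Module.Finite A ↑((KX l M).homology p) := by
  haveI := kterm_finite (M := M) l p
  exact Module.Finite.of_surjective (hcls (KX l M) p) (hcls_surjective p)

theorem H_killed_ann (l : List A) (a : A) (ha : ∀ m : M, a • m = 0) (p : ℤ)
    (h : (KX l M).homology p) : a • h = 0 := by
  obtain ⟨x, rfl⟩ := hcls_surjective p h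
  rw [← map_smul, show a • x = 0 from Subtype.ext (kterm_killed a ha l p x.1), map_zero]

theorem H_killed_span (l : List A) (a : A) (ha : a ∈ Ideal.ofList l) (p : ℤ)
    (h : (KX l M).homology p) : a • h = 0 := by
  obtain ⟨x, rfl⟩ := hcls_surjective p h
  rw [← map_smul]
  refine (hcls_eq_zero_iff p (p - 1) (sub_add_cancel p 1) _).2 ?_
  obtain ⟨s, hs⟩ := nullHtpy_of_mem_span (ModuleCat.of A M) (fs := l) ha
  refine ⟨s p (p - 1) (sub_add_cancel p 1) x.1, ?_⟩
  have h2 := hs (p - 1) p (p + 1) (sub_add_cancel p 1) rfl x.1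
  have hx : (KX l M).d p (p + 1) x.1 = 0 := x.2
  rw [hx, map_zero, add_zero] at h2
  exact h2

end Terms

section FiniteLength

variable [IsLocalRing A] [IsNoetherianRing A]

theorem exists_pow_smul_eq_zero {N : Type u} [AddCommGroup N] [Module A N] (hN : IsFiniteLength A N) :
    ∃ n : ℕ, maximalIdeal A ^ n ≤ Module.annihilator A N := by
  induction hN with
  | of_subsingleton => exact ⟨0, by simp [Module.annihilator_eq_top_iff.mpr inferInstance]⟩
  | @of_simple_quotient M _ _ N _ _ ih =>
    obtain ⟨n, hn⟩ := ih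
    obtain ⟨J, hJ, ⟨e⟩⟩ := isSimpleModule_iff_quot_maximal.1 (inferInstance : IsSimpleModule A (M ⧸ N))
    refine ⟨n + 1, ?_⟩
    rw [pow_succ, Ideal.mul_le]
    intro a ha b hb
    rw [Module.mem_annihilator]
    intro m
    have hbm : b • m ∈ N := by
      rw [← Submodule.Quotient.mk_eq_zero, Submodule.Quotient.mk_smul]
      apply e.injective
      rw [map_smul, map_zero]
      obtain ⟨c, hc⟩ := Ideal.Quotient.mk_surjective (e (Submodule.Quotient.mk m))
      rw [← hc]
      show Ideal.Quotient.mk J (b * c) = 0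
      exact Ideal.Quotient.eq_zero_iff_mem.2 (J.mul_mem_right c ((eq_maximalIdeal hJ).symm ▸ hb))
    rw [mul_smul]
    exact congrArg Subtype.val (Module.mem_annihilator.1 (hn ha) ⟨b • m, hbm⟩)

/-- `M/(l)M` has finite length, formulated through radicals (so that it passes to subquotients). -/
def Ok (l : List A) (M : Type u) [AddCommGroup M] [Module A M] : Prop :=
  maximalIdeal A ≤ (Ideal.ofList l ⊔ Module.annihilator A M).radical

theorem isFiniteLength_of_radical {H : Type u} [AddCommGroup H] [Module A H] [Module.Finite A H]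
    (h : maximalIdeal A ≤ (Module.annihilator A H).radical) : IsFiniteLength A H := by
  obtain ⟨N, hN⟩ := Ideal.exists_pow_le_of_le_radical_of_fg h (IsNoetherian.noetherian _)
  exact InjHull.isFiniteLength_of_pow_smul_eq_zero (maximalIdeal A) N H inferInstance fun a ha w =>
    Module.mem_annihilator.1 (hN ha) w

variable {M : Type u} [AddCommGroup M] [Module A M] [Module.Finite A M]

theorem ok_of_fl {l : List A} (h : IsFiniteLength A (M ⧸ Ideal.ofList l • (⊤ : Submodule A M))) :
    Ok l M := by
  obtain ⟨n, hn⟩ := exists_pow_smul_eq_zero h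
  have hrad : Module.annihilator A (M ⧸ Ideal.ofList l • (⊤ : Submodule A M)) ≤
      (Ideal.ofList l ⊔ Module.annihilator A M).radical := by
    rw [← PrimeSpectrum.zeroLocus_subset_zeroLocus_iff, PrimeSpectrum.zeroLocus_sup,
      ← Module.support_eq_zeroLocus, ← Module.support_eq_zeroLocus, Module.support_quotient,
      Set.inter_comm]
  intro a ha
  obtain ⟨k, hk⟩ := hrad (hn (Ideal.pow_mem_pow ha n))
  exact ⟨n * k, by rw [pow_mul]; exact hk⟩

theorem fl_of_ok {l : List A} (h : Ok l M) :
    IsFiniteLength A (M ⧸ Ideal.ofList l • (⊤ : Submodule A M)) := by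
  refine isFiniteLength_of_radical (h.trans (Ideal.radical_mono (sup_le (fun a ha => ?_) (fun a ha => ?_))))
  · refine Module.mem_annihilator.2 fun x => ?_
    obtain ⟨m, rfl⟩ := Submodule.Quotient.mk_surjective _ x
    rw [← Submodule.Quotient.mk_smul, Submodule.Quotient.mk_eq_zero]
    exact Submodule.smul_mem_smul ha trivial
  · refine Module.mem_annihilator.2 fun x => ?_
    obtain ⟨m, rfl⟩ := Submodule.Quotient.mk_surjective _ x
    rw [← Submodule.Quotient.mk_smul, Module.mem_annihilator.1 ha m, Submodule.Quotient.mk_zero]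

theorem H_fl {l : List A} (h : Ok l M) (p : ℤ) : IsFiniteLength A ((KX l M).homology p) := by
  haveI := H_finite (M := M) l p
  refine isFiniteLength_of_radical (h.trans (Ideal.radical_mono (sup_le ?_ ?_)))
  · exact fun a ha => Module.mem_annihilator.2 fun x => H_killed_span l a ha p x
  · exact fun a ha => Module.mem_annihilator.2 fun x =>
      H_killed_ann l a (Module.mem_annihilator.1 ha) p x

theorem bdd {l : List A} (h : Ok l M) : Bdd (KX l M) :=
  ⟨H_fl h, support_lenN_finite l⟩

end FiniteLength

section Exact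

variable {M₁ M₂ M₃ : ModuleCat.{u} A}

theorem kmap_injective (g : M₁ ⟶ M₂) (hg : Function.Injective g.hom) : ∀ (l : List A) (p : ℤ)
    (z : (CohIII.koszulCx M₁ l).X p), (kmap g l).f p z = 0 → z = 0
  | [], p, z, hz => by
    suffices H : ∀ z : (single0 M₁).X p,
        ((HomologicalComplex.single (ModuleCat.{u} A) (ComplexShape.up ℤ) 0).map g).f p z = 0 → z = 0 from H z hz
    clear hz z
    intro z hz
    rcases eq_or_ne p 0 with rfl | hp
    · rw [HomologicalComplex.single_map_f_self] at hz
      refine (e0 M₁).injective (hg ?_)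
      rw [map_zero, map_zero]
      exact ((e0 M₂).apply_symm_apply _).symm.trans ((congrArg (e0 M₂) hz).trans (map_zero _))
    · exact single0_eq_zero M₁ p (by lia) _
  | f :: l, p, z, hz => by
    suffices H : ∀ z : (mappingCone (f • 𝟙 (CohIII.koszulCx M₁ l))).X p,
        (mappingCone.map (f • 𝟙 (CohIII.koszulCx M₁ l)) (f • 𝟙 (CohIII.koszulCx M₂ l)) (kmap g l) (kmap g l)
          (by simp only [Linear.smul_comp, Linear.comp_smul, Category.id_comp, Category.comp_id])).f p z = 0 → z = 0 from H z hz
    clear hz z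
    intro z hz
    refine cone_ext (φ := f • 𝟙 (CohIII.koszulCx M₁ l)) rfl ?_ ?_
    · rw [map_zero]
      refine kmap_injective g hg l (p + 1) _ ?_
      exact (c1_map (φ' := f • 𝟙 (CohIII.koszulCx M₂ l)) (kmap g l) (kmap g l) _ rfl z).symm.trans
        ((congrArg _ hz).trans (map_zero _))
    · rw [map_zero]
      refine kmap_injective g hg l p _ ?_
      exact (c2_map (φ' := f • 𝟙 (CohIII.koszulCx M₂ l)) (kmap g l) (kmap g l) _ p z).symm.trans
        ((congrArg _ hz).trans (map_zero _))

theorem kmap_exact (a : M₁ ⟶ M₂) (b : M₂ ⟶ M₃) (hab : Function.Exact a.hom b.hom) :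
    ∀ (l : List A) (p : ℤ), Function.Exact ((kmap a l).f p).hom ((kmap b l).f p).hom
  | [], p => by
    intro z
    suffices H : ∀ z : (single0 M₂).X p,
        ((HomologicalComplex.single (ModuleCat.{u} A) (ComplexShape.up ℤ) 0).map b).f p z = 0 ↔
          ∃ u, ((HomologicalComplex.single (ModuleCat.{u} A) (ComplexShape.up ℤ) 0).map a).f p u = z from H z
    intro z
    rcases eq_or_ne p 0 with rfl | hp
    · have h3 : ∀ z, e0 M₃ (((HomologicalComplex.single (ModuleCat.{u} A) (ComplexShape.up ℤ) 0).map b).f 0 z)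
          = b.hom (e0 M₂ z) := fun z => by
        rw [HomologicalComplex.single_map_f_self]; exact (e0 M₃).apply_symm_apply _
      have h2 : ∀ z, e0 M₂ (((HomologicalComplex.single (ModuleCat.{u} A) (ComplexShape.up ℤ) 0).map a).f 0 z)
          = a.hom (e0 M₁ z) := fun z => by
        rw [HomologicalComplex.single_map_f_self]; exact (e0 M₂).apply_symm_apply _
      rw [← LinearEquiv.map_eq_zero_iff (e0 M₃), h3, hab _]
      constructor
      · rintro ⟨u, hu⟩
        exact ⟨(e0 M₁).symm u, (e0 M₂).injective (by rw [h2, (e0 M₁).apply_symm_apply, hu])⟩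
      · rintro ⟨u, rfl⟩
        exact ⟨e0 M₁ u, (h2 u).symm⟩
    · exact ⟨fun _ => ⟨0, (map_zero _).trans (single0_eq_zero M₂ p (by lia) _).symm⟩,
        fun _ => single0_eq_zero M₃ p (by lia) _⟩
  | f :: l, p => by
    intro z
    suffices H : ∀ z : (mappingCone (f • 𝟙 (CohIII.koszulCx M₂ l))).X p,
        (mappingCone.map (f • 𝟙 (CohIII.koszulCx M₂ l)) (f • 𝟙 (CohIII.koszulCx M₃ l)) (kmap b l) (kmap b l)
          (by simp only [Linear.smul_comp, Linear.comp_smul, Category.id_comp, Category.comp_id])).f p z = 0 ↔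
        ∃ u, (mappingCone.map (f • 𝟙 (CohIII.koszulCx M₁ l)) (f • 𝟙 (CohIII.koszulCx M₂ l)) (kmap a l) (kmap a l)
          (by simp only [Linear.smul_comp, Linear.comp_smul, Category.id_comp, Category.comp_id])).f p u = z from H z
    intro z
    constructor
    · intro h
      have h1 := congrArg (c1 (f • 𝟙 (CohIII.koszulCx M₃ l)) p (p + 1) rfl) h
      have h2 := congrArg (c2 (f • 𝟙 (CohIII.koszulCx M₃ l)) p) h
      rw [c1_map, map_zero] at h1
      rw [c2_map, map_zero] at h2
      obtain ⟨x, hx⟩ := (kmap_exact a b hab l (p + 1) _).1 h1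
      obtain ⟨y, hy⟩ := (kmap_exact a b hab l p _).1 h2
      exact ⟨cmk _ p (p + 1) rfl x y, cone_ext rfl
        (by rw [c1_map, c1_cmk]; exact hx) (by rw [c2_map, c2_cmk]; exact hy)⟩
    · rintro ⟨u, rfl⟩
      refine cone_ext rfl ?_ ?_
      · rw [c1_map, map_zero, c1_map]
        exact (kmap_exact a b hab l (p + 1) _).2 ⟨_, rfl⟩
      · rw [c2_map, map_zero, c2_map]
        exact (kmap_exact a b hab l p _).2 ⟨_, rfl⟩

end Exact

section SES

variable {M₁ M₂ M₃ : Type u} [AddCommGroup M₁] [Module A M₁] [AddCommGroup M₂] [Module A M₂]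
  [AddCommGroup M₃] [Module A M₃] (a : M₁ →ₗ[A] M₂) (b : M₂ →ₗ[A] M₃)

/-- The short complex of Koszul complexes attached to an exact sequence of modules. -/
noncomputable def kses (l : List A) (hab : Function.Exact a b) :
    ShortComplex (CochainComplex (ModuleCat.{u} A) ℤ) :=
  ShortComplex.mk (kmap (ModuleCat.ofHom a) l) (kmap (ModuleCat.ofHom b) l) (by
    refine HomologicalComplex.hom_ext _ _ fun p => ModuleCat.hom_ext (LinearMap.ext fun z => ?_)
    exact (kmap_exact (ModuleCat.ofHom a) (ModuleCat.ofHom b) hab l p _).2 ⟨z, rfl⟩)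

theorem kses_shortExact (l : List A) (ha : Function.Injective a) (hb : Function.Surjective b)
    (hab : Function.Exact a b) : (kses a b l hab).ShortExact := by
  refine HomologicalComplex.shortExact_of_degreewise_shortExact _ fun p => ?_
  haveI : Mono ((kses a b l hab).map (HomologicalComplex.eval _ _ p)).f :=
    (ModuleCat.mono_iff_injective _).2 ((injective_iff_map_eq_zero _).2
      (kmap_injective (ModuleCat.ofHom a) ha l p))
  haveI : Epi ((kses a b l hab).map (HomologicalComplex.eval _ _ p)).g :=
    (ModuleCat.epi_iff_surjective _).2 (kmap_surjective (ModuleCat.ofHom b) hb l p)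
  refine ⟨?_⟩
  rw [ShortComplex.ShortExact.moduleCat_exact_iff_function_exact]
  exact kmap_exact (ModuleCat.ofHom a) (ModuleCat.ofHom b) hab l p

theorem length_H_le (l : List A) (ha : Function.Injective a) (hb : Function.Surjective b)
    (hab : Function.Exact a b) (p : ℤ) :
    Module.length A ((KX l M₂).homology p) ≤
      Module.length A ((KX l M₁).homology p) + Module.length A ((KX l M₃).homology p) :=
  length_mid_le (kses_shortExact a b l ha hb hab) p

end SES

end Groth.Agent.KChi
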