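import Mathlib
import Groth.Prelude.Def_Koszul
import Groth.Prelude.Def_DRing2
import Groth.Agent.KChi.Koszul

/-!
Koszul complexes: killed / regular first element, and comparison with the tensor model.
-/

set_option autoImplicit false

universe u

open CategoryTheory CategoryTheory.Limits CochainComplex Groth.Agent.CechX MonoidalCategory

namespace Groth.Agent.KChi

variable {A : Type u} [CommRing A] {M : Type u} [AddCommGroup M] [Module A M]

section Killed

variable {f : A} (hf : ∀ m : M, f • m = 0) (l : List A)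

include hf in
theorem c1_cycle (p : ℤ) (x : LinearMap.ker ((mappingCone (f • 𝟙 (KX l M))).d p (p + 1)).hom) :
    (KX l M).d (p + 1) (p + 1 + 1) (c1 (f • 𝟙 (KX l M)) p (p + 1) rfl x.1) = 0 := by
  have h := congrArg (c1 (f • 𝟙 (KX l M)) (p + 1) (p + 1 + 1) rfl) x.2
  rw [c1_d rfl rfl, map_zero, neg_eq_zero] at h
  exact h

include hf in
theorem c2_cycle (p : ℤ) (x : LinearMap.ker ((mappingCone (f • 𝟙 (KX l M))).d p (p + 1)).hom) :
    (KX l M).d p (p + 1) (c2 (f • 𝟙 (KX l M)) p x.1) = 0 := by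
  have h := congrArg (c2 (f • 𝟙 (KX l M)) (p + 1)) x.2
  rw [c2_d rfl, smul_id_f_apply, kterm_killed f hf l, zero_add, map_zero] at h
  exact h

include hf in
/-- If `f` kills `M`, then the cohomology of `K(f :: l; M)` is that of `K(l; M)` twice. -/
theorem nonempty_H_equiv_of_killed (p : ℤ) :
    Nonempty (↑((KX (f :: l) M).homology p) ≃ₗ[A]
      ↑((KX l M).homology (p + 1)) × ↑((KX l M).homology p)) := by
  let C := mappingCone (f • 𝟙 (KX l M))
  let Φ : LinearMap.ker (C.d p (p + 1)).hom →ₗ[A]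
      ↑((KX l M).homology (p + 1)) × ↑((KX l M).homology p) :=
    (hcls (KX l M) (p + 1) ∘ₗ LinearMap.codRestrict _
      (c1 (f • 𝟙 (KX l M)) p (p + 1) rfl ∘ₗ Submodule.subtype _) (c1_cycle hf l p)).prod
    (hcls (KX l M) p ∘ₗ LinearMap.codRestrict _
      (c2 (f • 𝟙 (KX l M)) p ∘ₗ Submodule.subtype _) (c2_cycle hf l p))
  have hΦ : Function.Surjective Φ := by
    rintro ⟨a, b⟩
    obtain ⟨x, rfl⟩ := hcls_surjective (p + 1) a
    obtain ⟨y, rfl⟩ := hcls_surjective p b
    refine ⟨⟨cmk (f • 𝟙 (KX l M)) p (p + 1) rfl x.1 y.1, cone_ext (φ := f • 𝟙 (KX l M)) (rfl : p + 1 + 1 = p + 1 + 1) ?_ ?_⟩,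
      Prod.ext (congrArg (hcls _ _) (Subtype.ext ?_)) (congrArg (hcls _ _) (Subtype.ext ?_))⟩
    · rw [c1_d rfl rfl, c1_cmk, map_zero, neg_eq_zero]
      exact x.2
    · rw [c2_d rfl, c1_cmk, c2_cmk, smul_id_f_apply, kterm_killed f hf l, zero_add, map_zero]
      exact y.2
    · exact c1_cmk (φ := f • 𝟙 (KX l M)) rfl x.1 y.1
    · exact c2_cmk (φ := f • 𝟙 (KX l M)) rfl x.1 y.1
  have hker : LinearMap.ker (hcls C p) = LinearMap.ker Φ := by
    ext x
    have hq : p - 1 + 1 = p := sub_add_cancel p 1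
    rw [LinearMap.mem_ker, LinearMap.mem_ker, hcls_eq_zero_iff p (p - 1) hq]
    constructor
    · rintro ⟨y, hy⟩
      refine Prod.ext ?_ ?_
      · refine (hcls_eq_zero_iff (p + 1) p rfl _).2 ⟨-(c1 (f • 𝟙 (KX l M)) (p - 1) p hq y), ?_⟩
        show (KX l M).d p (p + 1) _ = c1 (f • 𝟙 (KX l M)) p (p + 1) rfl x.1
        rw [← hy, c1_d hq rfl, map_neg]
      · refine (hcls_eq_zero_iff p (p - 1) hq _).2 ⟨c2 (f • 𝟙 (KX l M)) (p - 1) y, ?_⟩
        show (KX l M).d (p - 1) p _ = c2 (f • 𝟙 (KX l M)) p x.1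
        rw [← hy, c2_d hq, smul_id_f_apply, kterm_killed f hf l, zero_add]
    · intro h
      obtain ⟨a, ha⟩ := (hcls_eq_zero_iff (p + 1) p rfl _).1 (congrArg Prod.fst h)
      obtain ⟨b, hb⟩ := (hcls_eq_zero_iff p (p - 1) hq _).1 (congrArg Prod.snd h)
      refine ⟨cmk (f • 𝟙 (KX l M)) (p - 1) p hq (-a) b, cone_ext rfl ?_ ?_⟩
      · rw [c1_d hq rfl, c1_cmk, map_neg, neg_neg]
        exact ha
      · rw [c2_d hq, c1_cmk, c2_cmk, smul_id_f_apply, kterm_killed f hf l, zero_add]
        exact hb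
  exact ⟨(LinearMap.quotKerEquivOfSurjective (hcls C p) (hcls_surjective p)).symm.trans
    ((Submodule.quotEquivOfEq _ _ hker).trans (LinearMap.quotKerEquivOfSurjective Φ hΦ))⟩

end Killed

section Regular

open scoped Pointwise

/-- If `f` is regular on `M`, then `K(f :: l; M)` computes the same as `K(l; M/fM)`. -/
theorem exists_quasiIso_of_regular {f : A} (hf : IsSMulRegular M f) (l : List A) :
    ∃ φ : KX (f :: l) M ⟶ KX l (QuotSMulTop f M), QuasiIso φ := by
  let g : ModuleCat.of A M ⟶ ModuleCat.of A (QuotSMulTop f M) :=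
    ModuleCat.ofHom (Submodule.mkQ (f • (⊤ : Submodule A M)))
  have hg : ∀ m : M, g.hom m = 0 ↔ ∃ u, f • u = m := fun m => by
    show Submodule.Quotient.mk m = 0 ↔ _
    rw [Submodule.Quotient.mk_eq_zero, Submodule.mem_smul_pointwise_iff_exists]
    simp
  have hcomm : ∀ (p : ℤ) (z : (KX l M).X p),
      (kmap g l).f p ((f • 𝟙 (KX l M) : KX l M ⟶ KX l M).f p z) = 0 := fun p z =>
    (kmap_eq_zero_iff g f hg l p _).2 ⟨z, (smul_id_f_apply f (KX l M) p z).symm⟩
  let S : ShortComplex (CochainComplex (ModuleCat.{u} A) ℤ) :=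
    ShortComplex.mk (f • 𝟙 (KX l M)) (kmap g l)
      (HomologicalComplex.hom_ext _ _ fun p => ModuleCat.hom_ext (LinearMap.ext fun z => hcomm p z))
  have hS : S.ShortExact := by
    refine HomologicalComplex.shortExact_of_degreewise_shortExact _ fun p => ?_
    haveI : Mono (S.map (HomologicalComplex.eval _ _ p)).f := (ModuleCat.mono_iff_injective _).2
      fun a b hab => koszulCx_isSMulRegular hf l p
        ((smul_id_f_apply f (KX l M) p a).symm.trans (hab.trans (smul_id_f_apply f (KX l M) p b)))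
    haveI : Epi (S.map (HomologicalComplex.eval _ _ p)).g :=
      (ModuleCat.epi_iff_surjective _).2 (kmap_surjective g (Submodule.mkQ_surjective _) l p)
    refine ⟨?_⟩
    rw [ShortComplex.ShortExact.moduleCat_exact_iff_function_exact]
    intro z
    show (kmap g l).f p z = 0 ↔ ∃ u, (f • 𝟙 (KX l M) : KX l M ⟶ KX l M).f p u = z
    rw [kmap_eq_zero_iff g f hg l p z]
    exact exists_congr fun u => by rw [smul_id_f_apply]
  exact ⟨mappingCone.descShortComplex S, mappingCone.quasiIso_descShortComplex hS⟩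

theorem lenN_H_of_regular {f : A} (hf : IsSMulRegular M f) (l : List A) (p : ℤ) :
    lenN A ((KX (f :: l) M).homology p) = lenN A ((KX l (QuotSMulTop f M)).homology p) := by
  obtain ⟨φ, hφ⟩ := exists_quasiIso_of_regular hf l
  exact lenN_homology_congr φ p

theorem length_H_of_regular {f : A} (hf : IsSMulRegular M f) (l : List A) (p : ℤ) :
    Module.length A ((KX (f :: l) M).homology p) =
      Module.length A ((KX l (QuotSMulTop f M)).homology p) := by
  obtain ⟨φ, hφ⟩ := exists_quasiIso_of_regular hf l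
  exact (asIso (HomologicalComplex.homologyMap φ p)).toLinearEquiv.length_eq

end Regular

section Tensor

/-- Comparison with the tensor model. -/
theorem nonempty_tensorCx_iso (N : ModuleCat.{u} A) : ∀ l : List A,
    Nonempty (DRing.tensorCx (Koszul.koszul A l) N ≅ CohIII.koszulCx N l)
  | [] => ⟨(HomologicalComplex.singleMapHomologicalComplex (tensorRight N) (ComplexShape.up ℤ) 0).app
      (ModuleCat.of A A) ≪≫ (HomologicalComplex.single (ModuleCat.{u} A) (ComplexShape.up ℤ) 0).mapIso (λ_ N)⟩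
  | f :: l => by
    obtain ⟨e⟩ := nonempty_tensorCx_iso N l
    let F := tensorRight N
    have h : (F.mapHomologicalComplex (ComplexShape.up ℤ)).map (f • 𝟙 (Koszul.koszul A l)) =
        f • 𝟙 ((F.mapHomologicalComplex (ComplexShape.up ℤ)).obj (Koszul.koszul A l)) := by
      refine HomologicalComplex.hom_ext _ _ fun p => ?_
      simp [F, Functor.mapHomologicalComplex_map_f]
    exact ⟨mappingCone.mapHomologicalComplexIso (f • 𝟙 (Koszul.koszul A l)) F ≪≫
      eqToIso (by rw [h]; rfl) ≪≫ mconeIso f e⟩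

theorem length_tensorCx (M : Type u) [AddCommGroup M] [Module A M] (l : List A) (p : ℤ) :
    Module.length A ((DRing.tensorCx (Koszul.koszul A l) (ModuleCat.of A M)).homology p) =
      Module.length A ((KX l M).homology p) := by
  obtain ⟨e⟩ := nonempty_tensorCx_iso (ModuleCat.of A M) l
  exact ((HomologicalComplex.homologyFunctor _ _ p).mapIso e).toLinearEquiv.length_eq

theorem finsum_tensorCx (M : Type u) [AddCommGroup M] [Module A M] (l : List A) :
    (∑ᶠ i : ℤ, ((i.negOnePow : ℤˣ) : ℤ) *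
      ((Module.length A ((DRing.tensorCx (Koszul.koszul A l) (ModuleCat.of A M)).homology i)).toNat : ℤ))
      = eul (KX l M) :=
  finsum_congr fun i => by rw [length_tensorCx]; rfl

end Tensor

end Groth.Agent.KChi
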