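import Mathlib
import Groth.Agent.KChi.Cone

/-!
The Koszul Euler characteristic `χ(l; M)`: additivity, the recursion in the first element,
multiplicativity in each element.
-/

set_option autoImplicit false

universe u

open CategoryTheory CategoryTheory.Limits IsLocalRing Groth.Agent.CechX
open scoped Pointwise

namespace Groth.Agent.KChi

variable {A : Type u} [CommRing A] [IsLocalRing A] [IsNoetherianRing A]

/-- The Koszul Euler characteristic. -/
noncomputable def chi (l : List A) (M : Type u) [AddCommGroup M] [Module A M] : ℤ :=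
  eul (KX l M)

section OkLemmas

variable {M N : Type u} [AddCommGroup M] [Module A M] [AddCommGroup N] [Module A N]

omit [IsNoetherianRing A] in
theorem Ok.mono {l l' : List A} (h : Ok l M)
    (hI : Ideal.ofList l ≤ (Ideal.ofList l' ⊔ Module.annihilator A N).radical)
    (hM : Module.annihilator A M ≤ (Ideal.ofList l' ⊔ Module.annihilator A N).radical) : Ok l' N :=
  h.trans (Ideal.radical_le_radical_iff.2 (sup_le hI hM))

omit [IsNoetherianRing A] in
theorem Ok.of_ann {l : List A} (h : Ok l M) (hM : Module.annihilator A M ≤ Module.annihilator A N) :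
    Ok l N :=
  h.trans (Ideal.radical_mono (sup_le_sup_left hM _))

omit [IsNoetherianRing A] in
theorem Ok.of_injective {l : List A} (h : Ok l M) (f : N →ₗ[A] M) (hf : Function.Injective f) : Ok l N :=
  h.of_ann (f.annihilator_le_of_injective hf)

omit [IsNoetherianRing A] in
theorem Ok.of_surjective {l : List A} (h : Ok l M) (f : M →ₗ[A] N) (hf : Function.Surjective f) :
    Ok l N :=
  h.of_ann (f.annihilator_le_of_surjective hf)

omit [IsNoetherianRing A] in
theorem Ok.sub {l : List A} (h : Ok l M) (S : Submodule A M) : Ok l S :=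
  h.of_injective S.subtype S.subtype_injective

omit [IsNoetherianRing A] in
theorem Ok.quot {l : List A} (h : Ok l M) (S : Submodule A M) : Ok l (M ⧸ S) :=
  h.of_surjective S.mkQ S.mkQ_surjective

omit [IsNoetherianRing A] in
/-- Drop the first element of the list if a power of it kills the module. -/
theorem Ok.drop {f : A} {l : List A} (h : Ok (f :: l) M)
    (hM : Module.annihilator A M ≤ Module.annihilator A N) (n : ℕ) (hf : ∀ x : N, f ^ n • x = 0) :
    Ok l N := by
  refine h.mono ?_ (hM.trans (le_trans le_sup_right Ideal.le_radical))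
  rw [Ideal.ofList_cons, sup_le_iff, Ideal.span_singleton_le_iff_mem]
  exact ⟨⟨n, Ideal.mem_sup_right (Module.mem_annihilator.2 hf)⟩, le_sup_left.trans Ideal.le_radical⟩

omit [IsNoetherianRing A] in
theorem Ok.cons {l : List A} (h : Ok l M) (f : A) : Ok (f :: l) M :=
  h.trans (Ideal.radical_mono (sup_le_sup_right (by rw [Ideal.ofList_cons]; exact le_sup_right) _))

omit [IsNoetherianRing A] in
theorem Ok.quotSMulTop {f : A} {l : List A} (h : Ok (f :: l) M) : Ok l (QuotSMulTop f M) := by
  refine h.drop (LinearMap.annihilator_le_of_surjective _ (Submodule.mkQ_surjective _)) 1 fun x => ?_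
  obtain ⟨m, rfl⟩ := Submodule.Quotient.mk_surjective _ x
  rw [pow_one, ← Submodule.Quotient.mk_smul, Submodule.Quotient.mk_eq_zero]
  exact Submodule.smul_mem_pointwise_smul m f ⊤ trivial

omit [IsNoetherianRing A] in
theorem Ok.torsionBy {f : A} {l : List A} (h : Ok (f :: l) M) (n : ℕ) :
    Ok l (Submodule.torsionBy A M (f ^ n)) :=
  h.drop (LinearMap.annihilator_le_of_injective _ (Submodule.subtype_injective _)) n
    fun x => Subtype.ext x.2

omit [IsNoetherianRing A] in
theorem Ok.torsionBy_one {f : A} {l : List A} (h : Ok (f :: l) M) :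
    Ok l (Submodule.torsionBy A M f) := by
  have := h.torsionBy 1
  rwa [pow_one] at this

end OkLemmas

section Basic

variable {M₁ M₂ M₃ : Type u} [AddCommGroup M₁] [Module A M₁] [AddCommGroup M₂] [Module A M₂]
  [AddCommGroup M₃] [Module A M₃]

theorem chi_subsingleton {l : List A} [Subsingleton M₁] : chi l M₁ = 0 := by
  refine finsum_eq_zero_of_forall_eq_zero fun i => ?_
  haveI : Subsingleton ↑((KX l M₁).homology i) := subsingleton_of_forall_eq 0 fun x => by
    rw [← one_smul A x]
    exact H_killed_ann l 1 (fun m => Subsingleton.elim _ _) i x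
  rw [lenN_subsingleton, Nat.cast_zero, mul_zero]

theorem chi_add [Module.Finite A M₂] {l : List A} (a : M₁ →ₗ[A] M₂) (b : M₂ →ₗ[A] M₃)
    (ha : Function.Injective a) (hb : Function.Surjective b) (hab : Function.Exact a b) (h : Ok l M₂) :
    chi l M₂ = chi l M₁ + chi l M₃ := by
  haveI : Module.Finite A M₁ := Module.Finite.of_injective a ha
  haveI : Module.Finite A M₃ := Module.Finite.of_surjective b hb
  have h1 : Bdd (kses a b l hab).X₁ := bdd (h.of_injective a ha)
  have h2 : Bdd (kses a b l hab).X₂ := bdd h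
  have h3 : Bdd (kses a b l hab).X₃ := bdd (h.of_surjective b hb)
  have e := eul_add (kses_shortExact a b l ha hb hab) h1 h2 h3
  exact e

theorem chi_congr [Module.Finite A M₁] {l : List A} (e : M₁ ≃ₗ[A] M₂) (h : Ok l M₁) :
    chi l M₁ = chi l M₂ := by
  have := chi_add (M₁ := PUnit.{u+1}) (l := l) (0 : PUnit.{u+1} →ₗ[A] M₁) e.toLinearMap
    (fun x y _ => Subsingleton.elim x y) e.surjective
    (fun y => ⟨fun hy => ⟨0, by simpa using (e.injective (hy.trans (map_zero _).symm)).symm⟩,
      fun ⟨x, hx⟩ => by rw [← hx]; simp⟩) h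
  rwa [chi_subsingleton (M₁ := PUnit.{u+1}), zero_add] at this

theorem chi_sub_add_quot [Module.Finite A M₂] {l : List A} (h : Ok l M₂) (S : Submodule A M₂) :
    chi l M₂ = chi l S + chi l (M₂ ⧸ S) :=
  chi_add S.subtype S.mkQ S.subtype_injective S.mkQ_surjective (LinearMap.exact_subtype_mkQ S) h

theorem chi_range_ker [Module.Finite A M₁] {l : List A} (g : M₁ →ₗ[A] M₂) (h : Ok l M₁) :
    chi l M₁ = chi l (LinearMap.ker g) + chi l (LinearMap.range g) := by
  rw [chi_sub_add_quot h (LinearMap.ker g), chi_congr g.quotKerEquivRange (h.quot _)]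

theorem chi_mid [Module.Finite A M₂] {l : List A} (a : M₁ →ₗ[A] M₂) (b : M₂ →ₗ[A] M₃)
    (hab : Function.Exact a b) (h : Ok l M₂) :
    chi l M₂ = chi l (LinearMap.range a) + chi l (LinearMap.range b) := by
  rw [chi_range_ker b h, hab.linearMap_ker_eq]

end Basic

section Head

variable {M : Type u} [AddCommGroup M] [Module A M] [Module.Finite A M] {f : A} {l : List A}

theorem chi_killed (hf : ∀ m : M, f • m = 0) (h : Ok l M) : chi (f :: l) M = 0 := by
  have hlen : ∀ p, lenN A ((KX (f :: l) M).homology p) =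
      lenN A ((KX l M).homology (p + 1)) + lenN A ((KX l M).homology p) := fun p => by
    obtain ⟨e⟩ := nonempty_H_equiv_of_killed hf l p
    rw [lenN_congr e, lenN, Module.length_prod,
      ENat.toNat_add (Module.length_ne_top_iff.mpr (H_fl h _)) (Module.length_ne_top_iff.mpr (H_fl h _))]
    rfl
  have hs := support_lenN_finite (M := M) l
  have hs' : (fun p => lenN A ((KX l M).homology (p + 1))).support.Finite :=
    hs.preimage (f := fun i : ℤ => i + 1) (fun x _ y _ e => add_right_cancel e)
  show eul _ = 0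
  rw [eul, finsum_congr fun p => by rw [hlen p, Nat.cast_add, mul_add],
    finsum_add_distrib (finite_support_sgn_mul hs') (finite_support_sgn_mul hs),
    finsum_sgn_shift (r := fun i => (lenN A ((KX l M).homology i) : ℤ)), neg_add_cancel]

theorem chi_nilp : ∀ (n : ℕ) (N : Type u) [AddCommGroup N] [Module A N] [Module.Finite A N],
    (∀ x : N, f ^ n • x = 0) → Ok l N →
      chi (f :: l) N = 0 ∧ chi l (QuotSMulTop f N) = chi l (Submodule.torsionBy A N f) := by
  intro n N _ _ _ hn h
  refine ⟨?_, ?_⟩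
  · induction n generalizing N with
    | zero =>
      haveI : Subsingleton N := subsingleton_of_forall_eq 0 fun x => by
        have := hn x; rwa [pow_zero, one_smul] at this
      exact chi_subsingleton
    | succ n ih =>
      rw [chi_sub_add_quot (h.cons f) (Submodule.torsionBy A N f),
        chi_killed (f := f) (fun x => Subtype.ext x.2) (h.sub _), zero_add]
      refine ih _ (fun x => ?_) (h.quot _)
      obtain ⟨m, rfl⟩ := Submodule.Quotient.mk_surjective _ x
      rw [← Submodule.Quotient.mk_smul, Submodule.Quotient.mk_eq_zero, Submodule.mem_torsionBy_iff,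
        smul_smul, ← pow_succ']
      exact hn m
  · let g : N →ₗ[A] N := f • LinearMap.id
    have hr : LinearMap.range g = f • (⊤ : Submodule A N) := by
      ext x
      simp [g, Submodule.mem_smul_pointwise_iff_exists]
    have hk : LinearMap.ker g = Submodule.torsionBy A N f := by
      ext x; simp [g, Submodule.mem_torsionBy_iff]
    have h1 := chi_range_ker g h
    rw [hk, hr] at h1
    have h2 := chi_sub_add_quot h (f • (⊤ : Submodule A N))
    show chi l (N ⧸ _) = _
    omega

omit [IsLocalRing A] in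
theorem exists_stable (f : A) (M : Type u) [AddCommGroup M] [Module A M] [Module.Finite A M] :
    ∃ n : ℕ, IsSMulRegular (M ⧸ Submodule.torsionBy A M (f ^ n)) f ∧
      ∀ m : M, f • m = 0 → m ∈ Submodule.torsionBy A M (f ^ n) := by
  haveI : IsNoetherian A M := isNoetherian_of_isNoetherianRing_of_finite A M
  obtain ⟨n, hn⟩ := (monotone_stabilizes_iff_noetherian.mpr inferInstance)
    ⟨fun k => Submodule.torsionBy A M (f ^ k), fun a b hab x hx => by
      rw [Submodule.mem_torsionBy_iff] at hx ⊢
      rw [← Nat.sub_add_cancel hab, pow_add, mul_smul, hx, smul_zero]⟩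
  refine ⟨n + 1, ?_, fun m hm => by rw [Submodule.mem_torsionBy_iff, pow_succ, mul_smul, hm, smul_zero]⟩
  rw [isSMulRegular_iff_right_eq_zero_of_smul]
  intro x hx
  obtain ⟨m, rfl⟩ := Submodule.Quotient.mk_surjective _ x
  rw [← Submodule.Quotient.mk_smul, Submodule.Quotient.mk_eq_zero, Submodule.mem_torsionBy_iff,
    smul_smul, ← pow_succ] at hx
  rw [Submodule.Quotient.mk_eq_zero]
  have h1 : Submodule.torsionBy A M (f ^ n) = Submodule.torsionBy A M (f ^ (n + 1)) := hn (n + 1) (by omega)
  have h2 : Submodule.torsionBy A M (f ^ n) = Submodule.torsionBy A M (f ^ (n + 1 + 1)) :=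
    hn (n + 1 + 1) (by omega)
  rw [← h1, h2, Submodule.mem_torsionBy_iff]
  exact hx

theorem chi_eq_regular (h : Ok (f :: l) M) (n : ℕ)
    (hreg : IsSMulRegular (M ⧸ Submodule.torsionBy A M (f ^ n)) f) :
    chi (f :: l) M = chi l (QuotSMulTop f (M ⧸ Submodule.torsionBy A M (f ^ n))) := by
  rw [chi_sub_add_quot h (Submodule.torsionBy A M (f ^ n)),
    (chi_nilp (f := f) n (Submodule.torsionBy A M (f ^ n)) (fun x => Subtype.ext x.2) (h.torsionBy n)).1,
    zero_add]
  exact finsum_congr fun i => by rw [lenN_H_of_regular hreg l i]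

/-- The recursion formula. -/
theorem chi_cons (h : Ok (f :: l) M) :
    chi (f :: l) M = chi l (QuotSMulTop f M) - chi l (Submodule.torsionBy A M f) := by
  obtain ⟨n, hreg, hsub⟩ := exists_stable f M
  rw [chi_eq_regular h n hreg]
  let T := Submodule.torsionBy A M (f ^ n)
  show chi l (QuotSMulTop f (M ⧸ T)) = _
  -- `T / fT → M / fM → M' / fM'`
  let a : QuotSMulTop f T →ₗ[A] QuotSMulTop f M := QuotSMulTop.map f T.subtype
  let b : QuotSMulTop f M →ₗ[A] QuotSMulTop f (M ⧸ T) := QuotSMulTop.map f T.mkQ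
  have ha : Function.Injective a := by
    have hex := QuotSMulTop.map_first_exact_on_four_term_exact_of_isSMulRegular_last (r := f)
      (f₁ := (0 : PUnit.{u+1} →ₗ[A] T)) (f₂ := T.subtype) (f₃ := T.mkQ)
      (fun y => ⟨fun hy => ⟨0, Subtype.ext (by simpa using hy.symm)⟩, fun ⟨z, hz⟩ => by rw [← hz]; simp⟩)
      (LinearMap.exact_subtype_mkQ T) hreg
    refine (injective_iff_map_eq_zero a).2 fun x hx => ?_
    obtain ⟨z, rfl⟩ := (hex x).1 hx
    rw [Subsingleton.elim z 0, map_zero]
  have e1 := chi_add a b ha (QuotSMulTop.map_surjective f T.mkQ_surjective)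
    (QuotSMulTop.map_exact f (LinearMap.exact_subtype_mkQ T) T.mkQ_surjective) h.quotSMulTop
  have e2 : chi l (QuotSMulTop f T) = chi l (Submodule.torsionBy A T f) :=
    (chi_nilp (f := f) n T (fun x => Subtype.ext x.2) (h.torsionBy n)).2
  let e : Submodule.torsionBy A T f ≃ₗ[A] Submodule.torsionBy A M f :=
    { toFun := fun x => ⟨x.1.1, congrArg Subtype.val x.2⟩
      map_add' := fun _ _ => rfl
      map_smul' := fun _ _ => rfl
      invFun := fun x => ⟨⟨x.1, hsub x.1 x.2⟩, Subtype.ext x.2⟩
      left_inv := fun _ => rfl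
      right_inv := fun _ => rfl }
  have e3 : chi l (Submodule.torsionBy A T f) = chi l (Submodule.torsionBy A M f) :=
    chi_congr e ((h.torsionBy n).sub _)
  omega

end Head

section Mul

variable {M : Type u} [AddCommGroup M] [Module A M] [Module.Finite A M]

omit [IsNoetherianRing A] [Module.Finite A M] in
theorem Ok.mul {x y : A} {l : List A} (hx : Ok (x :: l) M) (hy : Ok (y :: l) M) : Ok (x * y :: l) M := by
  intro a ha
  obtain ⟨j, hj⟩ := hx ha
  obtain ⟨k, hk⟩ := hy ha
  rw [Ideal.ofList_cons, sup_assoc] at hj hk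
  obtain ⟨r, hr, u, hu, e1⟩ := Submodule.mem_sup.1 hj
  obtain ⟨s, hs, v, hv, e2⟩ := Submodule.mem_sup.1 hk
  obtain ⟨r, rfl⟩ := Ideal.mem_span_singleton'.1 hr
  obtain ⟨s, rfl⟩ := Ideal.mem_span_singleton'.1 hs
  refine ⟨j + k, ?_⟩
  rw [Ideal.ofList_cons, sup_assoc, pow_add, ← e1, ← e2]
  refine Submodule.mem_sup.2 ⟨r * s * (x * y), Ideal.mem_span_singleton'.2 ⟨_, rfl⟩,
    r * x * v + u * (s * y) + u * v, ?_, by ring⟩
  exact add_mem (add_mem (Ideal.mul_mem_left _ _ hv) (Ideal.mul_mem_right _ _ hu)) (Ideal.mul_mem_right _ _ hu)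

theorem chi_mul {x y : A} {l : List A} (hx : Ok (x :: l) M) (hy : Ok (y :: l) M) :
    chi (x * y :: l) M = chi (x :: l) M + chi (y :: l) M := by
  rw [chi_cons hx, chi_cons hy, chi_cons (hx.mul hy)]
  let K1 := Submodule.torsionBy A M y
  let K2 := Submodule.torsionBy A M (x * y)
  let K3 := Submodule.torsionBy A M x
  let g1 : K1 →ₗ[A] K2 := Submodule.inclusion fun m hm => by
    rw [Submodule.mem_torsionBy_iff] at hm ⊢; rw [mul_smul, hm, smul_zero]
  let g2 : K2 →ₗ[A] K3 := LinearMap.codRestrict K3 (y • K2.subtype) fun m => by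
    rw [Submodule.mem_torsionBy_iff]
    show x • y • (m : M) = 0
    rw [smul_smul]; exact m.2
  let g3 : K3 →ₗ[A] QuotSMulTop y M := (Submodule.mkQ _).comp K3.subtype
  let g4 : QuotSMulTop y M →ₗ[A] QuotSMulTop (x * y) M := Submodule.mapQ _ _ (x • LinearMap.id) (by
    intro m hm
    obtain ⟨u, -, rfl⟩ := (Submodule.mem_smul_pointwise_iff_exists _ _ _).1 hm
    show x • y • u ∈ (x * y) • (⊤ : Submodule A M)
    rw [smul_smul]
    exact Submodule.smul_mem_pointwise_smul u (x * y) ⊤ trivial)
  let g5 : QuotSMulTop (x * y) M →ₗ[A] QuotSMulTop x M := Submodule.mapQ _ _ LinearMap.id (by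
    intro m hm
    obtain ⟨u, -, rfl⟩ := (Submodule.mem_smul_pointwise_iff_exists _ _ _).1 hm
    show (x * y) • u ∈ x • (⊤ : Submodule A M)
    rw [mul_smul]
    exact Submodule.smul_mem_pointwise_smul _ x ⊤ trivial)
  have x1 : Function.Injective g1 := Submodule.inclusion_injective _
  have x2 : Function.Exact g1 g2 := by
    intro m
    constructor
    · intro hm
      exact ⟨⟨m.1, congrArg Subtype.val hm⟩, rfl⟩
    · rintro ⟨u, rfl⟩
      exact Subtype.ext u.2
  have x3 : Function.Exact g2 g3 := by
    intro m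
    show Submodule.Quotient.mk (m : M) = 0 ↔ _
    rw [Submodule.Quotient.mk_eq_zero, Submodule.mem_smul_pointwise_iff_exists]
    constructor
    · rintro ⟨u, -, hu⟩
      refine ⟨⟨u, ?_⟩, Subtype.ext hu⟩
      rw [Submodule.mem_torsionBy_iff, mul_smul, hu]
      exact m.2
    · rintro ⟨u, rfl⟩
      exact ⟨u.1, trivial, rfl⟩
  have x4 : Function.Exact g3 g4 := by
    intro q
    obtain ⟨m, rfl⟩ := Submodule.Quotient.mk_surjective _ q
    show Submodule.Quotient.mk (x • m) = 0 ↔ _
    rw [Submodule.Quotient.mk_eq_zero, Submodule.mem_smul_pointwise_iff_exists]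
    constructor
    · rintro ⟨u, -, hu⟩
      refine ⟨⟨m - y • u, ?_⟩, ?_⟩
      · rw [Submodule.mem_torsionBy_iff, smul_sub, smul_smul, hu, sub_self]
      · show Submodule.Quotient.mk (m - y • u) = Submodule.Quotient.mk m
        rw [Submodule.Quotient.eq, sub_sub_cancel_left]
        exact Submodule.neg_mem _ (Submodule.smul_mem_pointwise_smul u y ⊤ trivial)
    · rintro ⟨u, hu⟩
      change Submodule.Quotient.mk (u : M) = Submodule.Quotient.mk m at hu
      rw [Submodule.Quotient.eq, Submodule.mem_smul_pointwise_iff_exists] at hu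
      obtain ⟨v, -, hv⟩ := hu
      refine ⟨-v, trivial, ?_⟩
      rw [mul_smul, smul_neg, hv, neg_sub, smul_sub, show x • (u : M) = 0 from u.2, sub_zero]
  have x5 : Function.Exact g4 g5 := by
    intro q
    obtain ⟨m, rfl⟩ := Submodule.Quotient.mk_surjective _ q
    show Submodule.Quotient.mk m = 0 ↔ _
    rw [Submodule.Quotient.mk_eq_zero, Submodule.mem_smul_pointwise_iff_exists]
    constructor
    · rintro ⟨u, -, rfl⟩
      exact ⟨Submodule.Quotient.mk u, rfl⟩
    · rintro ⟨u, hu⟩
      obtain ⟨u, rfl⟩ := Submodule.Quotient.mk_surjective _ u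
      change Submodule.Quotient.mk (x • u) = Submodule.Quotient.mk m at hu
      rw [Submodule.Quotient.eq, Submodule.mem_smul_pointwise_iff_exists] at hu
      obtain ⟨v, -, hv⟩ := hu
      refine ⟨u - y • v, trivial, ?_⟩
      rw [smul_sub, smul_smul, hv, sub_sub_cancel]
  have x6 : Function.Surjective g5 := fun q => by
    obtain ⟨m, rfl⟩ := Submodule.Quotient.mk_surjective _ q
    exact ⟨Submodule.Quotient.mk m, rfl⟩
  have okK2 : Ok l K2 := (hx.mul hy).torsionBy_one
  have okK3 : Ok l K3 := hx.torsionBy_one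
  have e1 : chi l K1 = chi l (LinearMap.range g1) :=
    chi_congr (LinearEquiv.ofInjective g1 x1) hy.torsionBy_one
  have e2 := chi_mid g1 g2 x2 okK2
  have e3 := chi_mid g2 g3 x3 okK3
  have e4 := chi_mid g3 g4 x4 hy.quotSMulTop
  have e5 := chi_mid g4 g5 x5 (hx.mul hy).quotSMulTop
  have e6 : chi l (LinearMap.range g5) = chi l (QuotSMulTop x M) :=
    chi_congr (LinearEquiv.ofTop _ (LinearMap.range_eq_top.2 x6))
      ((hx.mul hy).quotSMulTop.of_surjective g5.rangeRestrict g5.surjective_rangeRestrict)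
  show chi l (QuotSMulTop (x * y) M) - chi l K2 = (chi l (QuotSMulTop x M) - chi l K3) +
    (chi l (QuotSMulTop y M) - chi l K1)
  omega

omit [IsNoetherianRing A] [Module.Finite A M] in
theorem Ok.pow {f : A} {l : List A} (h : Ok (f :: l) M) (m : ℕ) : Ok (f ^ m :: l) M := by
  refine h.mono ?_ (le_sup_right.trans Ideal.le_radical)
  rw [Ideal.ofList_cons, sup_le_iff, Ideal.span_singleton_le_iff_mem]
  refine ⟨⟨m, Ideal.mem_sup_left ?_⟩, ?_⟩
  · rw [Ideal.ofList_cons]
    exact Ideal.mem_sup_left (Ideal.mem_span_singleton_self _)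
  · rw [Ideal.ofList_cons]
    exact (le_sup_of_le_left le_sup_right).trans Ideal.le_radical

theorem chi_pow {f : A} {l : List A} (h : Ok (f :: l) M) : ∀ m : ℕ,
    chi (f ^ m :: l) M = m * chi (f :: l) M
  | 0 => by
    rw [pow_zero, chi_cons (pow_zero f ▸ h.pow 0), Nat.cast_zero, zero_mul]
    haveI : Subsingleton (QuotSMulTop (1 : A) M) := subsingleton_of_forall_eq 0 fun q => by
      obtain ⟨m, rfl⟩ := Submodule.Quotient.mk_surjective _ q
      rw [Submodule.Quotient.mk_eq_zero, Submodule.mem_smul_pointwise_iff_exists]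
      exact ⟨m, trivial, one_smul _ _⟩
    haveI : Subsingleton (Submodule.torsionBy A M (1 : A)) := subsingleton_of_forall_eq 0 fun q =>
      Subtype.ext (by simpa using q.2)
    rw [chi_subsingleton, chi_subsingleton, sub_self]
  | m + 1 => by
    rw [pow_succ', chi_mul h (h.pow m), chi_pow h m]
    push_cast
    ring

end Mul

end Groth.Agent.KChi
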