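import Mathlib
import Groth.Agent.KChi.Main
import Groth.Agent.CechX.KoszulBasic

/-!
The Koszul Euler characteristic and the dimension.
-/

set_option autoImplicit false

universe u

open CategoryTheory CategoryTheory.Limits IsLocalRing Groth.Agent.CechX
open scoped Pointwise nonZeroDivisors

namespace Groth.Agent.KChi

variable {A : Type u} [CommRing A] [IsLocalRing A] [IsNoetherianRing A]

omit [IsLocalRing A] [IsNoetherianRing A] in
theorem withBot_cancel_one {a : WithBot ℕ∞} {n : ℕ} (h : a + 1 = ((n + 1 : ℕ) : WithBot ℕ∞)) :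
    a = (n : WithBot ℕ∞) := by
  cases a with
  | bot => rw [WithBot.bot_add] at h; exact absurd h.symm (by simp)
  | coe b =>
    cases b with
    | top =>
      have : ((⊤ : ℕ∞) : WithBot ℕ∞) + ((1 : ℕ∞) : WithBot ℕ∞) = (((n + 1 : ℕ) : ℕ∞) : WithBot ℕ∞) := h
      rw [← WithBot.coe_add, WithBot.coe_inj, top_add] at this
      exact absurd this (ENat.top_ne_natCast _)
    | coe k =>
      have : (((k + 1 : ℕ) : ℕ∞) : WithBot ℕ∞) = (((n + 1 : ℕ) : ℕ∞) : WithBot ℕ∞) := h
      rw [WithBot.coe_inj, ENat.coe_inj] at this
      obtain rfl : k = n := by omega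
      rfl

section

variable {M : Type u} [AddCommGroup M] [Module A M] [Module.Finite A M]

omit [Module.Finite A M] [IsLocalRing A] [IsNoetherianRing A] in
theorem subsingleton_of_supportDim_lt_zero (h : Module.supportDim A M < 0) : Subsingleton M := by
  by_contra hs
  rw [not_subsingleton_iff_nontrivial] at hs
  haveI : Nonempty (Module.support A M) :=
    Set.nonempty_coe_sort.mpr ((Module.nonempty_support_iff).mpr hs)
  exact absurd h (not_lt.mpr Order.krullDim_nonneg)

theorem chi_nil (h : Ok ([] : List A) M) : chi ([] : List A) M = (lenN A M : ℤ) := by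
  show eul _ = _
  rw [eul, finsum_eq_single _ (0 : ℤ) fun i hi => by
    haveI := subsingleton_H (A := A) (M := M) [] i (by simp only [List.length_nil]; omega)
    rw [lenN_subsingleton, Nat.cast_zero, mul_zero]]
  rw [sgn_zero, one_mul]
  obtain ⟨e⟩ := nonempty_top_equiv (ModuleCat.of A M) ([] : List A)
  congr 1
  rw [lenN_congr e]
  exact lenN_congr (Submodule.quotEquivOfEqBot _ (by rw [Ideal.ofList_nil, Submodule.bot_smul]))

omit [Module.Finite A M] in
theorem chi_cons_eq_regular {f : A} {l : List A} [Module.Finite A M] (h : Ok (f :: l) M) :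
    ∃ n : ℕ, IsSMulRegular (M ⧸ Submodule.torsionBy A M (f ^ n)) f ∧
      Ok l (QuotSMulTop f (M ⧸ Submodule.torsionBy A M (f ^ n))) ∧
      chi (f :: l) M = chi l (QuotSMulTop f (M ⧸ Submodule.torsionBy A M (f ^ n))) := by
  obtain ⟨n, hreg, -⟩ := exists_stable f M
  exact ⟨n, hreg, (h.quot _).quotSMulTop, chi_eq_regular h n hreg⟩

end

theorem chi_eq_zero_of_lt : ∀ (l : List A), (∀ a ∈ l, a ∈ maximalIdeal A) →
    ∀ (M : Type u) [AddCommGroup M] [Module A M] [Module.Finite A M], Ok l M →
      Module.supportDim A M < (l.length : WithBot ℕ∞) → chi l M = 0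
  | [], _, M, _, _, _, h, hd => by
    haveI := subsingleton_of_supportDim_lt_zero (A := A) (M := M) (by simpa using hd)
    exact chi_subsingleton
  | f :: l, hm, M, _, _, _, h, hd => by
    obtain ⟨n, hreg, hok, he⟩ := chi_cons_eq_regular h
    rw [he]
    let T := Submodule.torsionBy A M (f ^ n)
    refine chi_eq_zero_of_lt l (fun a ha => hm a (List.mem_cons_of_mem _ ha)) _ hok ?_
    by_contra hcon
    rw [not_lt] at hcon
    have h1 := Module.supportDim_quotSMulTop_succ_eq_supportDim hreg (hm f List.mem_cons_self)
    have h2 : Module.supportDim A (M ⧸ T) ≤ Module.supportDim A M :=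
      Module.supportDim_le_of_surjective T.mkQ T.mkQ_surjective
    rw [List.length_cons, Nat.cast_add, Nat.cast_one] at hd
    refine absurd hd (not_lt.mpr (le_trans ?_ h2))
    rw [← h1]
    exact add_le_add hcon le_rfl

theorem supportDim_le_length : ∀ (l : List A), (∀ a ∈ l, a ∈ maximalIdeal A) →
    ∀ (M : Type u) [AddCommGroup M] [Module A M] [Module.Finite A M], Ok l M →
      Module.supportDim A M ≤ (l.length : WithBot ℕ∞)
  | [], _, M, _, _, _, h => by
    suffices H : ∀ p ∈ Module.support A M, p = closedPoint A by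
      haveI : Subsingleton (Module.support A M) :=
        ⟨fun p q => Subtype.ext ((H p.1 p.2).trans (H q.1 q.2).symm)⟩
      exact Order.krullDim_nonpos_of_subsingleton.trans (by simp)
    intro p hp
    rw [Module.mem_support_iff_of_finite] at hp
    have h2 : maximalIdeal A ≤ p.asIdeal := h.trans (by
      rw [Ideal.ofList_nil, bot_sup_eq]
      exact p.isPrime.isRadical.radical_le_iff.2 hp)
    exact PrimeSpectrum.ext (le_antisymm (le_maximalIdeal p.isPrime.ne_top) h2)
  | f :: l, hm, M, _, _, _, h => by
    refine (Module.supportDim_le_supportDim_quotSMulTop_succ (hm f List.mem_cons_self)).trans ?_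
    rw [List.length_cons, Nat.cast_add, Nat.cast_one]
    exact add_le_add (supportDim_le_length l (fun a ha => hm a (List.mem_cons_of_mem _ ha)) _
      h.quotSMulTop) le_rfl

omit [IsLocalRing A] [IsNoetherianRing A] in
theorem supportDim_le_max {M : Type u} [AddCommGroup M] [Module A M] (T : Submodule A M) :
    Module.supportDim A M ≤ max (Module.supportDim A T) (Module.supportDim A (M ⧸ T)) := by
  refine iSup_le fun q => ?_
  have h := (Set.ext_iff.1 (Module.support_of_exact (LinearMap.exact_subtype_mkQ T) T.injective_subtype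
    T.mkQ_surjective) _).1 q.head.2
  have hle : ∀ i, (q.head : PrimeSpectrum A) ≤ (q i : PrimeSpectrum A) := fun i =>
    q.head_le i
  rcases h with h | h
  · refine le_max_of_le_left (le_iSup_of_le
      ⟨q.length, fun i => ⟨(q i).1, Module.mem_support_mono (hle i) h⟩, fun i => q.step i⟩ le_rfl)
  · refine le_max_of_le_right (le_iSup_of_le
      ⟨q.length, fun i => ⟨(q i).1, Module.mem_support_mono (hle i) h⟩, fun i => q.step i⟩ le_rfl)

theorem chi_pos_of_eq : ∀ (l : List A), (∀ a ∈ l, a ∈ maximalIdeal A) →
    ∀ (M : Type u) [AddCommGroup M] [Module A M] [Module.Finite A M], Ok l M →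
      Module.supportDim A M = (l.length : WithBot ℕ∞) → 0 < chi l M
  | [], _, M, _, _, _, h, hd => by
    rw [chi_nil h]
    haveI : Nontrivial M := by
      rw [← not_subsingleton_iff_nontrivial]
      intro hs
      rw [Module.supportDim_eq_bot_of_subsingleton] at hd
      exact absurd hd (by simp)
    have hfl : IsFiniteLength A M := isFiniteLength_of_radical (by
      have := h; rwa [Ok, Ideal.ofList_nil, bot_sup_eq] at this)
    have h1 : (lenN A M : ℕ∞) ≠ 0 := by
      rw [coe_lenN hfl]; exact Module.length_pos.ne'
    have : lenN A M ≠ 0 := by exact_mod_cast h1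
    omega
  | f :: l, hm, M, _, _, _, h, hd => by
    obtain ⟨n, hreg, hok, he⟩ := chi_cons_eq_regular h
    rw [he]
    refine chi_pos_of_eq l (fun a ha => hm a (List.mem_cons_of_mem _ ha)) _ hok (withBot_cancel_one ?_)
    rw [Module.supportDim_quotSMulTop_succ_eq_supportDim hreg (hm f List.mem_cons_self), ← List.length_cons, ← hd]
    refine le_antisymm (Module.supportDim_le_of_surjective _ (Submodule.mkQ_surjective _)) ?_
    refine le_of_not_gt fun hlt => ?_
    have hT : Module.supportDim A (Submodule.torsionBy A M (f ^ n)) < Module.supportDim A M := by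
      refine lt_of_le_of_lt (supportDim_le_length l (fun a ha => hm a (List.mem_cons_of_mem _ ha)) _
        (h.torsionBy n)) ?_
      rw [hd, List.length_cons]
      exact_mod_cast Nat.lt_succ_self _
    exact absurd (supportDim_le_max (Submodule.torsionBy A M (f ^ n))) (not_le.mpr (max_lt hT hlt))

theorem chi_pi_free (l : List A) (h : Ok l A) : ∀ r : ℕ, chi l (Fin r → A) = r * chi l A
  | 0 => by rw [Nat.cast_zero, zero_mul]; exact chi_subsingleton
  | r + 1 => by
    have ho : Ok l (Fin (r + 1) → A) := h.of_ann fun a ha =>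
      Module.mem_annihilator.2 fun v => funext fun i => Module.mem_annihilator.1 ha (v i)
    let b : (Fin (r + 1) → A) →ₗ[A] (Fin r → A) := LinearMap.funLeft A A Fin.succ
    rw [chi_add (LinearMap.single A (fun _ => A) (0 : Fin (r + 1))) b
      (fun x y e => by simpa using congrFun e 0)
      (fun v => ⟨Fin.cons 0 v, funext fun i => by simp [b, LinearMap.funLeft]⟩) ?_ ho,
      chi_pi_free l h r]
    · push_cast; ring
    · intro v
      constructor
      · intro hv
        refine ⟨v 0, funext fun i => ?_⟩
        refine Fin.cases ?_ (fun j => ?_) i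
        · simp
        · have := congrFun hv j
          simp [b, LinearMap.funLeft] at this
          simp [this]
      · rintro ⟨x, rfl⟩
        funext j
        simp [b, LinearMap.funLeft]

/-- `χ(x; M) = rank(M) χ(x; A)` for a domain and a system of parameters. -/
theorem chi_eq_rank_mul [IsDomain A] (l : List A) (hm : ∀ a ∈ l, a ∈ maximalIdeal A)
    (hdim : ringKrullDim A = (l.length : WithBot ℕ∞)) (hA : Ok l A)
    (M : Type u) [AddCommGroup M] [Module A M] [Module.Finite A M] :
    chi l M = (Module.finrank A M : ℤ) * chi l A := by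
  have hok : ∀ (N : Type u) [AddCommGroup N] [Module A N], Ok l N := fun N _ _ =>
    hA.of_ann fun a ha => Module.mem_annihilator.2 fun x => by
      have h1 : a • (1 : A) = 0 := Module.mem_annihilator.1 ha 1
      rw [smul_eq_mul, mul_one] at h1
      rw [h1, zero_smul]
  obtain ⟨v, hv⟩ := exists_linearIndependent_of_le_finrank (le_refl (Module.finrank A M))
  let g := Fintype.linearCombination A v
  have hg : Function.Injective g := linearIndependent_iff_injective_fintypeLinearCombination.1 hv
  have hq : Module.finrank A (M ⧸ LinearMap.range g) = 0 := by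
    have h1 := (LinearMap.range g).finrank_quotient_add_finrank
    rw [LinearMap.finrank_range_of_inj hg, Module.finrank_pi, Fintype.card_fin] at h1
    omega
  have htors : Module.IsTorsion A (M ⧸ LinearMap.range g) := Module.finrank_eq_zero_iff_isTorsion.1 hq
  obtain ⟨a, ha, ha0⟩ := Submodule.annihilator_top_inter_nonZeroDivisors htors
  have hlt : Module.supportDim A (M ⧸ LinearMap.range g) < (l.length : WithBot ℕ∞) := by
    rw [← hdim, Module.supportDim_eq_ringKrullDim_quotient_annihilator]
    have h1 : ringKrullDim (A ⧸ Ideal.span {a}) + 1 ≤ ringKrullDim A :=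
      ringKrullDim_quotient_succ_le_of_nonZeroDivisor ha0
    have h2 : ringKrullDim (A ⧸ Module.annihilator A (M ⧸ LinearMap.range g)) ≤ ringKrullDim (A ⧸ Ideal.span {a}) := by
      refine ringKrullDim_le_of_surjective (Ideal.Quotient.factor ?_) (Ideal.Quotient.factor_surjective _)
      rw [Ideal.span_singleton_le_iff_mem, ← Submodule.annihilator_top]
      exact ha
    refine lt_of_le_of_lt h2 ?_
    rw [hdim] at h1 ⊢
    refine lt_of_not_ge fun hge => ?_
    have h3 : (l.length : WithBot ℕ∞) + 1 ≤ (l.length : WithBot ℕ∞) := le_trans (add_le_add hge le_rfl) h1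
    have h4 : ((l.length + 1 : ℕ) : WithBot ℕ∞) ≤ ((l.length : ℕ) : WithBot ℕ∞) := by exact_mod_cast h3
    have h5 : l.length + 1 ≤ l.length := by exact_mod_cast h4
    omega
  rw [chi_add g (LinearMap.range g).mkQ hg (LinearMap.range g).mkQ_surjective
    (LinearMap.exact_map_mkQ_range g) (hok M), chi_pi_free l hA, chi_eq_zero_of_lt l hm _ (hok _) hlt,
    add_zero]

end Groth.Agent.KChi
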