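import Mathlib
import Groth.Agent.KChi.Dim

/-!
Growth of the lengths of Koszul homology along powers of the sequence.
-/

set_option autoImplicit false

universe u

open CategoryTheory CategoryTheory.Limits IsLocalRing Groth.Agent.CechX
open scoped Pointwise

namespace Groth.Agent.KChi

variable {A : Type u} [CommRing A] [IsLocalRing A] [IsNoetherianRing A]

/-- The sequence of `n`-th powers. -/
def pw (l : List A) (n : ℕ) : List A := l.map (· ^ n)

omit [IsNoetherianRing A] in
theorem Ok.pw {M : Type u} [AddCommGroup M] [Module A M] {l : List A} (h : Ok l M) (n : ℕ) :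
    Ok (pw l n) M := by
  refine h.mono ?_ (le_trans le_sup_right Ideal.le_radical)
  rw [Ideal.ofList, Ideal.span_le]
  intro a ha
  refine ⟨n, Ideal.mem_sup_left (Ideal.subset_span ?_)⟩
  exact List.mem_map.2 ⟨a, ha, rfl⟩

/-- `ℓ(H^i(x^n; M)) ≤ c n^e`. -/
def Bd (l : List A) (p : ℤ) (e : ℕ) (M : Type u) [AddCommGroup M] [Module A M] : Prop :=
  ∃ c : ℕ, ∀ n : ℕ, 0 < n → Module.length A ((KX (pw l n) M).homology p) ≤ ((c * n ^ e : ℕ) : ℕ∞)

section

variable {M₁ M₂ M₃ : Type u} [AddCommGroup M₁] [Module A M₁] [AddCommGroup M₂] [Module A M₂]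
  [AddCommGroup M₃] [Module A M₃] {l : List A} {p : ℤ} {e : ℕ}

theorem bd_mid (a : M₁ →ₗ[A] M₂) (b : M₂ →ₗ[A] M₃) (ha : Function.Injective a)
    (hb : Function.Surjective b) (hab : Function.Exact a b) (h1 : Bd l p e M₁) (h3 : Bd l p e M₃) :
    Bd l p e M₂ := by
  obtain ⟨c1, h1⟩ := h1
  obtain ⟨c3, h3⟩ := h3
  refine ⟨c1 + c3, fun n hn => (length_H_le a b (pw l n) ha hb hab p).trans ?_⟩
  refine (add_le_add (h1 n hn) (h3 n hn)).trans_eq ?_
  rw [← Nat.cast_add, add_mul]

theorem bd_zero {M : Type u} [AddCommGroup M] [Module A M]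
    (h : ∀ n, 0 < n → Subsingleton ((KX (pw l n) M).homology p)) : Bd l p e M :=
  ⟨0, fun n hn => by haveI := h n hn; rw [Module.length_eq_zero]; exact zero_le⟩

theorem bd_subsingleton {M : Type u} [AddCommGroup M] [Module A M] [Subsingleton M] : Bd l p e M :=
  bd_zero fun n _ => subsingleton_of_forall_eq 0 fun x => by
    rw [← one_smul A x]
    exact H_killed_ann _ 1 (fun m => Subsingleton.elim _ _) p x

theorem bd_of_nil {M : Type u} [AddCommGroup M] [Module A M] [Module.Finite A M] (h : Ok ([] : List A) M) :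
    Bd ([] : List A) p e M := by
  refine ⟨lenN A ((KX ([] : List A) M).homology p), fun n hn => ?_⟩
  show Module.length A ((KX ([] : List A) M).homology p) ≤ _
  rw [← coe_lenN (H_fl h p)]
  exact Nat.cast_le.2 (Nat.le_mul_of_pos_right _ (pow_pos hn e))

end

/-- Reduction to modules killed by `f` or on which `f` is regular. -/
theorem devissage (f : A) (l : List A) (p : ℤ) (e : ℕ)
    (M : Type u) [AddCommGroup M] [Module A M] [Module.Finite A M] (h : Ok (f :: l) M)
    (Q : ∀ (N : Type u) [AddCommGroup N] [Module A N], Prop) (hQ : Q M)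
    (hQi : ∀ (N N' : Type u) [AddCommGroup N] [Module A N] [AddCommGroup N'] [Module A N'] (g : N →ₗ[A] N'),
      Function.Injective g → Q N' → Q N)
    (hQs : ∀ (N N' : Type u) [AddCommGroup N] [Module A N] [AddCommGroup N'] [Module A N'] (g : N →ₗ[A] N'),
      Function.Surjective g → Q N → Q N')
    (hkill : ∀ (N : Type u) [AddCommGroup N] [Module A N] [Module.Finite A N],
      (∀ x : N, f • x = 0) → Ok l N → Q N → Bd (f :: l) p e N)
    (hreg : ∀ (N : Type u) [AddCommGroup N] [Module A N] [Module.Finite A N],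
      IsSMulRegular N f → Ok (f :: l) N → Q N → Bd (f :: l) p e N) :
    Bd (f :: l) p e M := by
  have nilp : ∀ (n : ℕ) (N : Type u) [AddCommGroup N] [Module A N] [Module.Finite A N],
      (∀ x : N, f ^ n • x = 0) → Ok l N → Q N → Bd (f :: l) p e N := by
    intro n
    induction n with
    | zero =>
      intro N _ _ _ hN _ _
      haveI : Subsingleton N := subsingleton_of_forall_eq 0 fun x => by
        have := hN x; rwa [pow_zero, one_smul] at this
      exact bd_subsingleton
    | succ n ih =>
      intro N _ _ _ hN hok hq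
      let T := Submodule.torsionBy A N f
      refine bd_mid T.subtype T.mkQ T.injective_subtype T.mkQ_surjective (LinearMap.exact_subtype_mkQ T)
        (hkill T (fun x => Subtype.ext x.2) (hok.sub _) (hQi _ _ T.subtype T.injective_subtype hq))
        (ih _ (fun x => ?_) (hok.quot _) (hQs _ _ T.mkQ T.mkQ_surjective hq))
      obtain ⟨m, rfl⟩ := Submodule.Quotient.mk_surjective _ x
      rw [← Submodule.Quotient.mk_smul, Submodule.Quotient.mk_eq_zero, Submodule.mem_torsionBy_iff,
        smul_smul, ← pow_succ']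
      exact hN m
  obtain ⟨n, hn, -⟩ := exists_stable f M
  let T := Submodule.torsionBy A M (f ^ n)
  exact bd_mid T.subtype T.mkQ T.injective_subtype T.mkQ_surjective (LinearMap.exact_subtype_mkQ T)
    (nilp n T (fun x => Subtype.ext x.2) (h.torsionBy n) (hQi _ _ T.subtype T.injective_subtype hQ))
    (hreg _ hn (h.quot _) (hQs _ _ T.mkQ T.mkQ_surjective hQ))

section Steps

variable {M : Type u} [AddCommGroup M] [Module A M] [Module.Finite A M] {f : A} {l : List A}

theorem bd_killed (hf : ∀ x : M, f • x = 0) {p : ℤ} {e : ℕ}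
    (h1 : Bd l (p + 1) e M) (h2 : Bd l p e M) : Bd (f :: l) p e M := by
  obtain ⟨c1, h1⟩ := h1
  obtain ⟨c2, h2⟩ := h2
  refine ⟨c1 + c2, fun n hn => ?_⟩
  have hfn : ∀ x : M, f ^ n • x = 0 := fun x => by
    obtain ⟨k, rfl⟩ := Nat.exists_eq_succ_of_ne_zero hn.ne'
    rw [pow_succ, mul_smul, hf, smul_zero]
  obtain ⟨eqv⟩ := nonempty_H_equiv_of_killed hfn (pw l n) p
  show Module.length A ((KX (f ^ n :: pw l n) M).homology p) ≤ _
  rw [eqv.length_eq, Module.length_prod]
  refine (add_le_add (h1 n hn) (h2 n hn)).trans_eq ?_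
  rw [← Nat.cast_add, add_mul]

omit [Module.Finite A M] [IsNoetherianRing A] [IsLocalRing A] in
theorem length_quot_pow_le (hf : IsSMulRegular M f) (l' : List A) (p : ℤ) : ∀ j : ℕ,
    Module.length A ((KX l' (QuotSMulTop (f ^ j) M)).homology p) ≤
      (j : ℕ∞) * Module.length A ((KX l' (QuotSMulTop f M)).homology p)
  | 0 => by
    haveI : Subsingleton ((KX l' (QuotSMulTop (f ^ 0) M)).homology p) :=
      subsingleton_of_forall_eq 0 fun x => by
        rw [← one_smul A x]
        refine H_killed_ann _ 1 (fun q => ?_) p x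
        obtain ⟨m, rfl⟩ := Submodule.Quotient.mk_surjective _ q
        rw [← Submodule.Quotient.mk_smul, Submodule.Quotient.mk_eq_zero,
          Submodule.mem_smul_pointwise_iff_exists]
        exact ⟨m, trivial, by rw [pow_zero]⟩
    rw [Module.length_eq_zero]
    exact zero_le
  | j + 1 => by
    let a : QuotSMulTop f M →ₗ[A] QuotSMulTop (f ^ (j + 1)) M :=
      Submodule.mapQ _ _ (f ^ j • LinearMap.id) (by
        intro m hm
        obtain ⟨u, -, rfl⟩ := (Submodule.mem_smul_pointwise_iff_exists _ _ _).1 hm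
        show f ^ j • f • u ∈ f ^ (j + 1) • (⊤ : Submodule A M)
        rw [smul_smul, ← pow_succ]
        exact Submodule.smul_mem_pointwise_smul u (f ^ (j + 1)) ⊤ trivial)
    let b : QuotSMulTop (f ^ (j + 1)) M →ₗ[A] QuotSMulTop (f ^ j) M :=
      Submodule.mapQ _ _ LinearMap.id (by
        intro m hm
        obtain ⟨u, -, rfl⟩ := (Submodule.mem_smul_pointwise_iff_exists _ _ _).1 hm
        show f ^ (j + 1) • u ∈ f ^ j • (⊤ : Submodule A M)
        rw [pow_succ, mul_smul]
        exact Submodule.smul_mem_pointwise_smul _ (f ^ j) ⊤ trivial)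
    have ha : Function.Injective a := (injective_iff_map_eq_zero a).2 fun q hq => by
      obtain ⟨m, rfl⟩ := Submodule.Quotient.mk_surjective _ q
      change Submodule.Quotient.mk (f ^ j • m) = 0 at hq
      rw [Submodule.Quotient.mk_eq_zero, Submodule.mem_smul_pointwise_iff_exists] at hq ⊢
      obtain ⟨u, -, hu⟩ := hq
      rw [pow_succ, mul_smul] at hu
      exact ⟨u, trivial, hf.pow j hu⟩
    have hb : Function.Surjective b := fun q => by
      obtain ⟨m, rfl⟩ := Submodule.Quotient.mk_surjective _ q
      exact ⟨Submodule.Quotient.mk m, rfl⟩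
    have hab : Function.Exact a b := by
      intro q
      obtain ⟨m, rfl⟩ := Submodule.Quotient.mk_surjective _ q
      show Submodule.Quotient.mk m = 0 ↔ _
      rw [Submodule.Quotient.mk_eq_zero, Submodule.mem_smul_pointwise_iff_exists]
      constructor
      · rintro ⟨u, -, rfl⟩
        exact ⟨Submodule.Quotient.mk u, rfl⟩
      · rintro ⟨u, hu⟩
        obtain ⟨u, rfl⟩ := Submodule.Quotient.mk_surjective _ u
        change Submodule.Quotient.mk (f ^ j • u) = Submodule.Quotient.mk m at hu
        rw [Submodule.Quotient.eq, Submodule.mem_smul_pointwise_iff_exists] at hu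
        obtain ⟨v, -, hv⟩ := hu
        rw [pow_succ, mul_smul] at hv
        exact ⟨u - f • v, trivial, by rw [smul_sub, hv, sub_sub_cancel]⟩
    refine (length_H_le a b l' ha hb hab p).trans ?_
    rw [Nat.cast_add, Nat.cast_one, add_mul, one_mul, add_comm]
    exact add_le_add (length_quot_pow_le hf l' p j) le_rfl

theorem bd_regular (hf : IsSMulRegular M f) {p : ℤ} {e : ℕ}
    (h : Bd l p e (QuotSMulTop f M)) : Bd (f :: l) p (e + 1) M := by
  obtain ⟨c, h⟩ := h
  refine ⟨c, fun n hn => ?_⟩
  show Module.length A ((KX (f ^ n :: pw l n) M).homology p) ≤ _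
  rw [length_H_of_regular (hf.pow n) (pw l n) p]
  refine (length_quot_pow_le hf (pw l n) p n).trans ?_
  refine (mul_le_mul' le_rfl (h n hn)).trans_eq ?_
  rw [← Nat.cast_mul]
  congr 1
  ring

end Steps

theorem bd_poly : ∀ (l : List A) (M : Type u) [AddCommGroup M] [Module A M] [Module.Finite A M],
    Ok l M → ∀ i : ℕ, Bd l (-(i : ℤ)) (l.length - i) M
  | [], M, _, _, _, h, _ => bd_of_nil h
  | f :: l, M, _, _, _, h, i => by
    refine devissage f l _ _ M h (fun _ _ _ => True) trivial (fun _ _ _ _ _ _ _ _ _ => trivial)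
      (fun _ _ _ _ _ _ _ _ _ => trivial) (fun N _ _ _ hN hok _ => ?_) (fun N _ _ _ hN hok _ => ?_)
    · refine bd_killed hN ?_ ?_
      · cases i with
        | zero => exact bd_zero fun n _ => subsingleton_H _ _ (Or.inl (by simp))
        | succ k =>
          rw [show -((k + 1 : ℕ) : ℤ) + 1 = -(k : ℤ) by push_cast; ring]
          rw [show (f :: l).length - (k + 1) = l.length - k by simp]
          exact bd_poly l N hok k
      · obtain ⟨c, hc⟩ := bd_poly l N hok i
        refine ⟨c, fun n hn => (hc n hn).trans ?_⟩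
        exact Nat.cast_le.2 (Nat.mul_le_mul_left c (Nat.pow_le_pow_right hn (by simp only [List.length_cons]; omega)))
    · by_cases hi : i ≤ l.length
      · have h1 := bd_regular hN (bd_poly l _ hok.quotSMulTop i)
        rwa [show (f :: l).length - i = l.length - i + 1 by simp only [List.length_cons]; omega]
      · have h1 : Bd l (-(i : ℤ)) 0 (QuotSMulTop f N) := bd_zero fun n _ =>
          subsingleton_H _ _ (Or.inr (by simp [pw]; omega))
        obtain ⟨c, hc⟩ := h1
        refine ⟨0, fun n hn => ?_⟩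
        haveI : Subsingleton ((KX (pw l n) (QuotSMulTop (f ^ n) N)).homology (-(i : ℤ))) :=
          subsingleton_H _ _ (Or.inr (by simp [pw]; omega))
        show Module.length A ((KX (f ^ n :: pw l n) N).homology (-(i : ℤ))) ≤ _
        rw [length_H_of_regular (hN.pow n) (pw l n), Module.length_eq_zero]
        exact zero_le

theorem bd_dim : ∀ (l : List A), (∀ a ∈ l, a ∈ maximalIdeal A) →
    ∀ (M : Type u) [AddCommGroup M] [Module A M] [Module.Finite A M], Ok l M →
      ∀ (d : ℕ), Module.supportDim A M ≤ (d : WithBot ℕ∞) → ∀ p : ℤ, Bd l p d M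
  | [], _, M, _, _, _, h, _, _, _ => bd_of_nil h
  | f :: l, hm, M, _, _, _, h, d, hd, p => by
    have hm' : ∀ a ∈ l, a ∈ maximalIdeal A := fun a ha => hm a (List.mem_cons_of_mem _ ha)
    refine devissage f l p d M h (fun N _ _ => Module.supportDim A N ≤ (d : WithBot ℕ∞)) hd
      (fun N N' _ _ _ _ g hg hN => (Module.supportDim_le_of_injective g hg).trans hN)
      (fun N N' _ _ _ _ g hg hN => (Module.supportDim_le_of_surjective g hg).trans hN)
      (fun N _ _ _ hN hok hq => bd_killed hN (bd_dim l hm' N hok d hq _) (bd_dim l hm' N hok d hq _))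
      (fun N _ _ _ hN hok hq => ?_)
    rw [← Module.supportDim_quotSMulTop_succ_eq_supportDim hN (hm f List.mem_cons_self)] at hq
    cases d with
    | zero =>
      haveI : Subsingleton (QuotSMulTop f N) := by
        refine subsingleton_of_supportDim_lt_zero (A := A) (lt_of_not_ge fun hge => ?_)
        have h3 : ((1 : ℕ) : WithBot ℕ∞) ≤ ((0 : ℕ) : WithBot ℕ∞) := by
          refine le_trans ?_ hq
          rw [Nat.cast_one]
          exact le_add_of_nonneg_left hge
        have h4 : (1 : ℕ) ≤ 0 := by exact_mod_cast h3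
        omega
      obtain ⟨c, hc⟩ := bd_regular (l := l) (p := p) (e := 0) hN bd_subsingleton
      refine ⟨0, fun n hn => ?_⟩
      show Module.length A ((KX (f ^ n :: pw l n) N).homology p) ≤ _
      rw [length_H_of_regular (hN.pow n) (pw l n) p]
      refine (length_quot_pow_le hN (pw l n) p n).trans ?_
      haveI : Subsingleton ((KX (pw l n) (QuotSMulTop f N)).homology p) :=
        subsingleton_of_forall_eq 0 fun x => by
          rw [← one_smul A x]
          exact H_killed_ann _ 1 (fun m => Subsingleton.elim _ _) p x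
      rw [Module.length_eq_zero (R := A) (M := (KX (pw l n) (QuotSMulTop f N)).homology p), mul_zero]
      exact zero_le
    | succ k =>
      refine bd_regular hN (bd_dim l hm' _ hok.quotSMulTop k ?_ p)
      revert hq
      generalize Module.supportDim A (QuotSMulTop f N) = a
      intro hq
      cases a with
      | bot => exact bot_le
      | coe b =>
        have hq' : b + 1 ≤ ((k + 1 : ℕ) : ℕ∞) := WithBot.coe_le_coe.1 hq
        refine WithBot.coe_le_coe.2 ?_
        cases b with
        | top => rw [top_add, top_le_iff] at hq'; exact absurd hq' (ENat.natCast_ne_top _)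
        | coe j =>
          have : ((j + 1 : ℕ) : ℕ∞) ≤ ((k + 1 : ℕ) : ℕ∞) := hq'
          exact Nat.cast_le.2 (by have := Nat.cast_le.1 this; omega)

end Groth.Agent.KChi

namespace Groth.Agent.KChi

variable {A : Type u} [CommRing A] [IsLocalRing A] [IsNoetherianRing A]

omit [IsLocalRing A] [IsNoetherianRing A] in
theorem ofList_ofFn {k : ℕ} (x : Fin k → A) : Ideal.ofList (List.ofFn x) = Ideal.span (Set.range x) := by
  rw [Ideal.ofList]; congr 1; ext a; simp

theorem ok_ofFn {k : ℕ} {x : Fin k → A} {M : Type u} [AddCommGroup M] [Module A M] [Module.Finite A M]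
    (h : IsFiniteLength A (M ⧸ (Ideal.span (Set.range x) • (⊤ : Submodule A M)))) : Ok (List.ofFn x) M :=
  ok_of_fl (by rw [ofList_ofFn]; exact h)

omit [IsLocalRing A] [IsNoetherianRing A] in
theorem pw_ofFn {k : ℕ} (x : Fin k → A) (n : ℕ) : pw (List.ofFn x) n = List.ofFn fun j => x j ^ n :=
  List.map_ofFn

theorem chi_pow_prod : ∀ {k : ℕ} (x : Fin k → A) (m : Fin k → ℕ) (M : Type u) [AddCommGroup M] [Module A M]
    [Module.Finite A M], Ok (List.ofFn x) M →
      chi (List.ofFn fun j => x j ^ m j) M = (∏ j, (m j : ℤ)) * chi (List.ofFn x) M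
  | 0, x, m, M, _, _, _, _ => by simp
  | k + 1, x, m, M, _, _, _, h => by
    have hr : ∀ (z : A), Ok (z :: List.ofFn fun j : Fin k => x j.succ) M →
        Ok (z :: List.ofFn fun j : Fin k => x j.succ ^ m j.succ) M := by
      intro z hz
      refine hz.mono ?_ (le_trans le_sup_right Ideal.le_radical)
      rw [Ideal.ofList, Ideal.span_le]
      intro a ha
      rcases List.mem_cons.1 ha with rfl | ha
      · exact Ideal.le_radical (Ideal.mem_sup_left (Ideal.subset_span List.mem_cons_self))
      · obtain ⟨j, rfl⟩ := List.mem_ofFn.1 ha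
        exact ⟨m j.succ, Ideal.mem_sup_left (Ideal.subset_span
          (List.mem_cons_of_mem _ (List.mem_ofFn.2 ⟨j, rfl⟩)))⟩
    rw [List.ofFn_succ] at h
    rw [List.ofFn_succ, List.ofFn_succ, chi_pow (hr _ h) (m 0), chi_cons (hr _ h),
      chi_pow_prod (fun j => x j.succ) (fun j => m j.succ) _ h.quotSMulTop,
      chi_pow_prod (fun j => x j.succ) (fun j => m j.succ) _ h.torsionBy_one, chi_cons h,
      Fin.prod_univ_succ]
    ring

end Groth.Agent.KChi
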