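import Mathlib
import Groth.Agent.KChi.Growth
import Groth.Agent.LechLib.Main

/-!
The multiplicity of an ideal generated by `x` is the Koszul Euler characteristic (Serre).
-/

set_option autoImplicit false

universe u

open Filter Topology IsLocalRing Groth.Agent.CechX

namespace Groth.Agent.KChi

variable {A : Type u} [CommRing A] [IsLocalRing A] [IsNoetherianRing A]
  {M : Type u} [AddCommGroup M] [Module A M] [Module.Finite A M] {r : ℕ}

theorem chi_eq_range_sum (l : List A) :
    chi l M = ∑ i ∈ Finset.range (l.length + 1),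
      sgn (-(i : ℤ)) * (lenN A ((KX l M).homology (-(i : ℤ))) : ℤ) := by
  show eul _ = _
  rw [eul, finsum_eq_sum_of_support_subset _ (s := (Finset.range (l.length + 1)).image fun i : ℕ => -(i : ℤ)),
    Finset.sum_image (fun a _ b _ h => by simpa using h)]
  intro p hp
  by_contra hc
  refine hp ?_
  haveI : Subsingleton ((KX l M).homology p) := subsingleton_H l p (by
    by_contra h
    push Not at h
    refine hc (Finset.mem_coe.2 (Finset.mem_image.2 ⟨(-p).toNat, Finset.mem_range.2 (by omega), by omega⟩)))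
  show sgn p * (lenN A ((KX l M).homology p) : ℤ) = 0
  rw [lenN_subsingleton, Nat.cast_zero, mul_zero]

theorem length_H_zero (l : List A) :
    Module.length A ((KX l M).homology 0) = Module.length A (M ⧸ (Ideal.ofList l • (⊤ : Submodule A M))) := by
  obtain ⟨e⟩ := nonempty_top_equiv (ModuleCat.of A M) l
  exact e.length_eq

theorem tendsto_length_pow_quot (x : Fin r → A) (h : Ok (List.ofFn x) M) :
    Tendsto (fun n : ℕ => ((Module.length A (M ⧸ (Ideal.span (Set.range fun i => x i ^ n) •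
      (⊤ : Submodule A M)))).toNat : ℝ) / (n : ℝ) ^ r) atTop (𝓝 (chi (List.ofFn x) M : ℝ)) := by
  choose c hc using fun i => bd_poly (List.ofFn x) M h i
  let C : ℕ := ∑ i ∈ Finset.range r, c (i + 1)
  have key : ∀ n : ℕ, 0 < n → |((Module.length A (M ⧸ (Ideal.span (Set.range fun i => x i ^ n) •
      (⊤ : Submodule A M)))).toNat : ℤ) - (n : ℤ) ^ r * chi (List.ofFn x) M| * (n : ℤ) ≤ (C : ℤ) * (n : ℤ) ^ r := by
    intro n hn
    have h1 : chi (List.ofFn fun j => x j ^ n) M = (n : ℤ) ^ r * chi (List.ofFn x) M := by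
      have := chi_pow_prod x (fun _ => n) M h
      rwa [Finset.prod_const, Finset.card_univ, Fintype.card_fin] at this
    rw [← h1, chi_eq_range_sum, List.length_ofFn, Finset.sum_range_succ', Nat.cast_zero, neg_zero,
      sgn_zero, one_mul]
    have h0 : lenN A ((KX (List.ofFn fun j => x j ^ n) M).homology 0) =
        (Module.length A (M ⧸ (Ideal.span (Set.range fun i => x i ^ n) • (⊤ : Submodule A M)))).toNat := by
      rw [lenN, length_H_zero, ofList_ofFn]
    rw [h0, sub_add_cancel_right, abs_neg]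
    refine (mul_le_mul_of_nonneg_right (Finset.abs_sum_le_sum_abs _ _) (Nat.cast_nonneg n)).trans ?_
    rw [Finset.sum_mul, Nat.cast_sum, Finset.sum_mul]
    refine Finset.sum_le_sum fun i hi => ?_
    have hsgn : |sgn (-((i + 1 : ℕ) : ℤ))| = 1 := by
      simp [sgn, Int.abs_eq_natAbs, Int.units_natAbs]
    rw [abs_mul, hsgn, one_mul, Nat.abs_cast]
    have hb := hc (i + 1) n hn
    have hok : Ok (List.ofFn fun j => x j ^ n) M := by rw [← pw_ofFn]; exact h.pw n
    have hb : ((lenN A ((KX (List.ofFn fun j => x j ^ n) M).homology (-((i + 1 : ℕ) : ℤ))) : ℕ) : ℕ∞) ≤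
        ((c (i + 1) * n ^ (r - (i + 1)) : ℕ) : ℕ∞) := by
      rw [coe_lenN (H_fl hok _), ← pw_ofFn]
      simpa [List.length_ofFn] using hb
    rw [Nat.cast_le] at hb
    have hpow : n ^ (r - (i + 1)) * n ≤ n ^ r := by
      rw [← pow_succ]
      exact Nat.pow_le_pow_right hn (by have := Finset.mem_range.1 hi; omega)
    have hb2 : lenN A ((KX (List.ofFn fun j => x j ^ n) M).homology (-((i + 1 : ℕ) : ℤ))) * n ≤ c (i + 1) * n ^ r := by
      refine (Nat.mul_le_mul_right n hb).trans ?_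
      rw [mul_assoc]
      exact Nat.mul_le_mul_left _ hpow
    exact_mod_cast hb2
  rw [Metric.tendsto_atTop]
  intro ε hε
  obtain ⟨N, hN⟩ := exists_nat_gt ((C : ℝ) / ε)
  refine ⟨N + 1, fun n hn => ?_⟩
  have hn0 : 0 < n := by omega
  have hr0 : (0 : ℝ) < (n : ℝ) ^ r := pow_pos (Nat.cast_pos.2 hn0) r
  have hnr : (0 : ℝ) < (n : ℝ) := Nat.cast_pos.2 hn0
  set L := (Module.length A (M ⧸ (Ideal.span (Set.range fun i => x i ^ n) • (⊤ : Submodule A M)))).toNat
  have hk : |(L : ℝ) - (n : ℝ) ^ r * (chi (List.ofFn x) M : ℝ)| * (n : ℝ) ≤ (C : ℝ) * (n : ℝ) ^ r := by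
    have := key n hn0
    have h2 := (Int.cast_le (R := ℝ)).2 this
    push_cast at h2
    exact h2
  rw [Real.dist_eq, show (L : ℝ) / (n : ℝ) ^ r - (chi (List.ofFn x) M : ℝ) =
    ((L : ℝ) - (n : ℝ) ^ r * (chi (List.ofFn x) M : ℝ)) / (n : ℝ) ^ r by field_simp, abs_div,
    abs_of_pos hr0, div_lt_iff₀ hr0]
  refine lt_of_mul_lt_mul_right (lt_of_le_of_lt hk ?_) hnr.le
  have hCn : (C : ℝ) < ε * n := by
    rw [div_lt_iff₀ hε] at hN
    have : (N : ℝ) ≤ (n : ℝ) := Nat.cast_le.2 (by omega)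
    nlinarith
  nlinarith

theorem tendsto_samuel (x : Fin r → A)
    (h : IsFiniteLength A (M ⧸ (Ideal.span (Set.range x) • (⊤ : Submodule A M)))) :
    Tendsto (fun t : ℕ => (r.factorial : ℝ) * ((Module.length A (M ⧸ (Ideal.span (Set.range x) ^ t •
      (⊤ : Submodule A M)))).toNat : ℝ) / (t : ℝ) ^ r) atTop (𝓝 (chi (List.ofFn x) M : ℝ)) := by
  obtain ⟨e, he1, he2⟩ := LechLib.exists_limit x h
  rw [← tendsto_nhds_unique he2 (tendsto_length_pow_quot x (ok_ofFn h))]
  have h3 := he1.const_mul (r.factorial : ℝ)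
  rw [show (r.factorial : ℝ) * ((e : ℝ) / r.factorial) = (e : ℝ) from
    mul_div_cancel₀ _ (Nat.cast_ne_zero.2 r.factorial_ne_zero)] at h3
  simpa [mul_div_assoc] using h3

end Groth.Agent.KChi
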