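import Mathlib
import Groth.Prelude.Def_IntMult
import Groth.Agent.KChi.Lech
import Groth.Agent.AnnKill.KoszulCx
import Groth.Agent.S15821
import Groth.Agent.FlatCx.Homology
import Groth.Agent.TorBalance.Basic

/-!
`Tor(A/(l), M)` of a weakly regular sequence is computed by the Koszul complex.
-/

set_option autoImplicit false
set_option linter.style.haveILetI false

universe u

open CategoryTheory Limits HomologicalComplex MonoidalCategory Groth.Agent.CechX

namespace Groth.Agent.KChi

variable {A : Type u} [CommRing A]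

theorem koszul_eq : ∀ l : List A, Koszul.koszul A l = CohIII.koszulCx (ModuleCat.of A A) l
  | [] => rfl
  | f :: l => by
    show CochainComplex.mappingCone (f • 𝟙 (Koszul.koszul A l)) =
      CochainComplex.mappingCone (f • 𝟙 (CohIII.koszulCx (ModuleCat.of A A) l))
    rw [koszul_eq l]

theorem exists_augmentation (l : List A) :
    ∃ g : ↑((Koszul.koszul A l).X 0) →ₗ[A] A ⧸ Ideal.ofList l, Function.Surjective g ∧
      ∀ x, g x = 0 ↔ ∃ y, (Koszul.koszul A l).d (-1) 0 y = x := by
  rw [koszul_eq l]
  obtain ⟨e, he⟩ := exists_equiv_zero (ModuleCat.of A A) l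
  refine ⟨(Submodule.mkQ _).comp e.toLinearMap, (Submodule.mkQ_surjective _).comp e.surjective, fun x => ?_⟩
  rw [he x]
  show Submodule.Quotient.mk (e x) = 0 ↔ _
  rw [Submodule.Quotient.mk_eq_zero, smul_eq_mul, Ideal.mul_top]

/-- The Koszul complex as a chain complex. -/
noncomputable def kch (l : List A) : ChainComplex (ModuleCat.{u} A) ℕ :=
  ChainComplex.of (fun n : ℕ => (Koszul.koszul A l).X (-(n : ℤ)))
    (fun n => (Koszul.koszul A l).d (-((n + 1 : ℕ) : ℤ)) (-(n : ℤ)))
    (fun _ => (Koszul.koszul A l).d_comp_d _ _ _)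

theorem kch_d (l : List A) (i j : ℕ) (h : j + 1 = i) :
    (kch l).d i j = (Koszul.koszul A l).d (-(i : ℤ)) (-(j : ℤ)) := by
  subst h
  exact ChainComplex.of_d (fun n : ℕ => (Koszul.koszul A l).X (-(n : ℤ)))
    (fun n => (Koszul.koszul A l).d (-((n + 1 : ℕ) : ℤ)) (-(n : ℤ))) j

instance projective_kch (l : List A) (n : ℕ) : Projective ((kch l).X n) := by
  haveI : Module.Free A ((Koszul.koszul A l).X (-(n : ℤ))) := (AnnKill.kz_free_finite l _).1
  haveI : Module.Projective A ((Koszul.koszul A l).X (-(n : ℤ))) := Module.Projective.of_free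
  haveI : Module.Projective A ((kch l).X n) := ‹_›
  exact (IsProjective.iff_projective _).1 inferInstance

theorem exists_resolution (l : List A) (hl : RingTheory.Sequence.IsWeaklyRegular A l) :
    ∃ P : ProjectiveResolution (ModuleCat.of A (A ⧸ Ideal.ofList l)), P.complex = kch l := by
  obtain ⟨g, hg, hker⟩ := exists_augmentation l
  have hvan : ∀ i : ℤ, i ≠ 0 → IsZero ((Koszul.koszul A l).homology i) := (S15821.result A l hl).1
  have hw : (kch l).d 1 0 ≫ (ModuleCat.ofHom g :
      (kch l).X 0 ⟶ ModuleCat.of A (A ⧸ Ideal.ofList l)) = 0 := by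
    rw [kch_d l 1 0 rfl]
    refine ModuleCat.hom_ext (LinearMap.ext fun y => ?_)
    exact (hker _).2 ⟨y, rfl⟩
  let π : kch l ⟶ (ChainComplex.single₀ (ModuleCat.{u} A)).obj (ModuleCat.of A (A ⧸ Ideal.ofList l)) :=
    ((kch l).toSingle₀Equiv _).symm ⟨ModuleCat.ofHom g, hw⟩
  refine ⟨{ complex := kch l, π := π, quasiIso := ⟨fun n => ?_⟩ }, rfl⟩
  cases n with
  | succ m =>
    rw [quasiIsoAt_iff_exactAt' π _ (ChainComplex.exactAt_succ_single_obj _ _),
      exactAt_iff_isZero_homology, FlatCx.isZero_homology_iff (K := kch l) (i := m + 2) (k := m) (by simp) (by simp)]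
    intro z hz
    rw [kch_d l (m + 1) m rfl] at hz
    rw [kch_d l (m + 2) (m + 1) rfl]
    have h := (FlatCx.isZero_homology_iff (K := Koszul.koszul A l) (i := -((m + 2 : ℕ) : ℤ)) (k := -(m : ℤ))
      (by simp; ring) (by simp)).1 (hvan (-((m + 1 : ℕ) : ℤ)) (by omega))
    exact h z hz
  | zero =>
    rw [quasiIsoAt_iff_isIso_homologyMap, ConcreteCategory.isIso_iff_bijective]
    have hf0 : π.f 0 = (ModuleCat.ofHom g : (kch l).X 0 ⟶ ModuleCat.of A (A ⧸ Ideal.ofList l)) :=
      ChainComplex.toSingle₀Equiv_symm_apply_f_zero _ _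
    refine ⟨(FlatCx.homologyMap_injective_iff π (i := 1) (k := 0) (by simp) (by simp)).2 ?_,
      (FlatCx.homologyMap_surjective_iff π (i := 1) (k := 0) (by simp) (by simp)).2 ?_⟩
    · intro z _ hb
      rw [hf0] at hb
      obtain ⟨y, hy⟩ := hb
      rw [HomologicalComplex.single_obj_d] at hy
      obtain ⟨w, hw'⟩ := (hker z).1 hy.symm
      exact ⟨w, by rw [kch_d l 1 0 rfl]; exact hw'⟩
    · intro z _
      obtain ⟨z', hz'⟩ := hg z
      refine ⟨z', ?_, ?_⟩
      · rw [(kch l).shape 0 0 (by simp)]; rfl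
      · rw [hf0]
        exact ⟨0, (map_zero _).trans (sub_eq_zero.2 hz').symm⟩

theorem length_tor_eq (l : List A) (hl : RingTheory.Sequence.IsWeaklyRegular A l)
    (M : Type u) [AddCommGroup M] [Module A M] (i : ℕ) :
    Module.length A (DRing.Tor A i (A ⧸ Ideal.ofList l) M) =
      Module.length A ((KX l M).homology (-(i : ℤ))) := by
  cases i with
  | zero =>
    haveI : PreservesFiniteColimits ((tensoringLeft (ModuleCat.{u} A)).obj (ModuleCat.of A (A ⧸ Ideal.ofList l))) :=
      inferInstanceAs (PreservesFiniteColimits (tensorLeft (ModuleCat.of A (A ⧸ Ideal.ofList l))))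
    let e := (((tensoringLeft (ModuleCat.{u} A)).obj (ModuleCat.of A (A ⧸ Ideal.ofList l))).leftDerivedZeroIsoSelf.app
      (ModuleCat.of A M)).toLinearEquiv
    obtain ⟨e0⟩ := nonempty_top_equiv (ModuleCat.of A M) l
    rw [Nat.cast_zero, neg_zero, e0.length_eq]
    exact e.length_eq.trans (TensorProduct.quotTensorEquivQuotSMul M (Ideal.ofList l)).length_eq
  | succ p =>
    obtain ⟨P, hP⟩ := exists_resolution l hl
    let N := ModuleCat.of A M
    let e1 := TorBalance.balanceObj P (p + 1) (projectiveResolution N)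
    rw [← length_tensorCx]
    refine e1.toLinearEquiv.length_eq.trans ?_
    rw [hP]
    let C := (TorBalance.cxR (kch l)).obj N
    let D := DRing.tensorCx (Koszul.koszul A l) N
    let e : C.sc' (p + 2) (p + 1) p ≅ D.sc' (-((p + 2 : ℕ) : ℤ)) (-((p + 1 : ℕ) : ℤ)) (-(p : ℤ)) :=
      ShortComplex.isoMk (Iso.refl _) (Iso.refl _) (Iso.refl _)
        (by
          refine (Category.id_comp _).trans (Eq.trans ?_ (Category.comp_id _).symm)
          show (tensorRight N).map ((Koszul.koszul A l).d _ _) = (tensorRight N).map ((kch l).d (p + 2) (p + 1))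
          exact congrArg (tensorRight N).map (kch_d l (p + 2) (p + 1) rfl).symm)
        (by
          refine (Category.id_comp _).trans (Eq.trans ?_ (Category.comp_id _).symm)
          show (tensorRight N).map ((Koszul.koszul A l).d _ _) = (tensorRight N).map ((kch l).d (p + 1) p)
          exact congrArg (tensorRight N).map (kch_d l (p + 1) p rfl).symm)
    exact (C.homologyIsoSc' (p + 2) (p + 1) p (by simp) (by simp) ≪≫ ShortComplex.homologyMapIso e ≪≫
      (D.homologyIsoSc' _ (-((p + 1 : ℕ) : ℤ)) _ (by simp; ring) (by simp)).symm).toLinearEquiv.length_eq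

theorem intMult_chi_eq [IsLocalRing A] [IsNoetherianRing A] (l : List A)
    (hl : RingTheory.Sequence.IsWeaklyRegular A l) (M : Type u) [AddCommGroup M] [Module A M]
    [Module.Finite A M] :
    IntMult.chi A (A ⧸ Ideal.ofList l) M = chi l M := by
  rw [chi_eq_range_sum, IntMult.chi, finsum_eq_sum_of_support_subset _ (s := Finset.range (l.length + 1))]
  · refine Finset.sum_congr rfl fun i _ => ?_
    rw [length_tor_eq l hl M i, sgn, Int.negOnePow_neg]
    congr 1
  · intro i hi
    by_contra hc
    refine hi ?_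
    haveI : Subsingleton ((KX l M).homology (-(i : ℤ))) :=
      subsingleton_H l _ (Or.inr (by simp only [Finset.coe_range, Set.mem_Iio] at hc; omega))
    show (-1 : ℤ) ^ i * _ = 0
    rw [length_tor_eq l hl M i, Module.length_eq_zero]
    simp

end Groth.Agent.KChi
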